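import Cfsg.Agent.HZ.L.U.Box
import Cfsg.Agent.HZ.L.E7.Ex
import Cfsg.Agent.HZ.L.E7.E8
import Cfsg.Agent.HZ.L.X.Adm

/-!
# HZ/L/U: the proper standard Levi subsystems are of exact type (helper51)

`D₄ E₆ E₈` : inside the lattice `E₈` (`iso_sl`); `G₂ F₄` : certificates (`Cert`).
-/

set_option autoImplicit false
set_option linter.unusedSectionVars false
set_option maxRecDepth 100000
set_option synthInstance.maxSize 4096
set_option synthInstance.maxHeartbeats 200000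

namespace Cfsg.Agent.HZ.L.U

open Cfsg Cfsg.Lie Matrix Finset Cfsg.Agent.KZ.DatX Cfsg.Agent.Nodes.RGDChev Cfsg.Agent.ChevalleyStructure.CoxeterGeom
  Cfsg.Agent.ChevalleyStructure.CoxeterGeomTypes Cfsg.Agent.Tits.Roots Cfsg.Agent.HZ.L.CL.ExB
open Cfsg.Agent.H92.NE (bl bl_apply bl_comm bl_sr bl_sr_sr FormOK bl_rep)
open Cfsg.Agent.HZ.L.E7 (C8 bf sl)

namespace ExU

variable {C : ChevalleyDatum} {n : ℕ} {M : CoxeterMatrix (Fin n)} {B : Fin n → Fin n → ℤ}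

theorem ex_iso {R R' : Type} [Fintype R] [Fintype R'] {Ψ : RS R} {Ψ' : RS R'} (h : Iso Ψ Ψ') (e : Ex Ψ') : Ex Ψ :=
  let ⟨N, κ, blk, h1, h2⟩ := e
  ⟨N, κ, blk, iso_trans h h1, h2⟩

theorem pos {x : Fin n → ℤ} (h : 0 ≤ x) (K : Finset (Fin n)) : x ⬝ᵥ ind K = 0 ↔ ∀ i, i ∉ K → x i = 0 := by
  refine (sum_eq_zero_iff_of_nonneg fun i _ => mul_nonneg (h i) (by unfold ind; split_ifs <;> norm_num)).trans ?_
  exact forall_congr' fun i => by by_cases e : i ∈ K <;> simp [ind, e]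

theorem root (hp : IsType C n M) (s : Fin C.nroots) : IsRoot M.toCoxeterSystem hp.isCartan (vec C n s) :=
  (isRoot_iff hp _ _).2 ⟨s, s.2, rfl⟩

theorem supp (hp : IsType C n M) (s : Fin C.nroots) (K : Finset (Fin n)) :
    vec C n s ⬝ᵥ ind K = 0 ↔ ∀ i, i ∉ K → vec C n s i = 0 := by
  rcases (root hp s).pos_or_neg with h | h
  · exact pos h K
  · simpa only [neg_dotProduct, Pi.neg_apply, neg_eq_zero] using pos (neg_nonneg.2 h) K

/-- the simply laced types inside `E₈` -/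
theorem iso_sl (hp : IsType C n M) (hF : FB C n B) (ι : Fin n → Fin 8) (hι : Function.Injective ι)
    (hB : ∀ i j, B i j = C8 (ι i) (ι j)) (h3 : ∀ r : Fin chevE8.nroots, (∀ k, (∀ i, ι i ≠ k) → vec chevE8 8 r k = 0) →
      ∃ s : Fin C.nroots, ∀ i, vec C n s i = vec chevE8 8 r (ι i)) (K : Finset (Fin n)) :
    Iso (lev (Ph C n B) (ind K)) (sl (ι '' K)) := by
  let x : (Fin n → ℤ) → Fin 8 → ℤ := fun a => Function.extend ι a 0
  have x1 : ∀ a i, x a (ι i) = a i := fun a i => hι.extend_apply _ _ i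
  have x2 : ∀ a k, k ∉ Set.range ι → x a k = 0 := fun a k hk => Function.extend_apply' _ _ k hk
  have x3 : ∀ a v, x a ⬝ᵥ v = ∑ i, a i * v (ι i) := fun a v =>
    (Fintype.sum_of_injective ι hι _ _ (fun k hk => by rw [x2 a k hk, zero_mul]) fun i => by rw [x1]).symm
  have x4 : ∀ a b, bf (x a) (x b) = bl B b a := fun a b => by
    rw [bf, x3, bl_apply]
    refine sum_congr rfl fun i _ => ?_
    rw [show (C8 *ᵥ x b) (ι i) = _ from (dotProduct_comm _ _).trans (x3 b _), mul_sum]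
    exact sum_congr rfl fun j _ => by rw [hB]; ring
  have h2 : ∀ s : Fin C.nroots, bl B (vec C n s) (vec C n s) = 2 := fun s => by
    obtain ⟨w, i, e⟩ := root hp s
    have k : ∀ i, C8 i i = 2 := by decide +kernel
    rw [e, bl_rep hp hF.1, bl_sr_sr, hB, k]
  have h4 : ∀ (s : Fin C.nroots) a, a ⬝ᵥ cv B (vec C n s) = bl B (vec C n s) a := fun s a => by
    rw [bl_apply]
    refine sum_congr rfl fun i _ => ?_
    rw [cv, h2, Int.mul_ediv_cancel_left _ two_ne_zero, bl_sr, mul_sum]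
    exact sum_congr rfl fun j _ => (mul_assoc _ _ _).symm
  refine iso_of (fun a => (x a.1 ᵥ* C8, x a.1)) ⟨?_, ?_, ?_⟩ ?_
  · rintro _ ⟨⟨s, rfl⟩, h⟩
    refine ⟨⟨?_, fun v => ?_⟩, fun k hk => ?_⟩
    · show bf (1 *ᵥ x _) (1 *ᵥ x _) = 2
      rw [one_mulVec, x4]
      exact h2 s
    · show x _ ᵥ* C8 ⬝ᵥ v = bf (1 *ᵥ x _) (1 *ᵥ v)
      rw [one_mulVec, one_mulVec, bf, dotProduct_mulVec]
    · by_cases e : k ∈ Set.range ι
      · obtain ⟨i, rfl⟩ := e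
        exact (x1 _ i).trans ((supp hp s K).1 h i fun hi => hk ⟨i, hi, rfl⟩)
      · exact x2 _ k e
  · rintro _ ⟨⟨s, rfl⟩, -⟩ _ ⟨⟨t, rfl⟩, -⟩ e
    have e1 : vec C n s = vec C n t := funext fun i => (x1 _ i).symm.trans ((congrFun (Prod.mk.inj e).2 _).trans (x1 _ i))
    rw [pr, pr, e1]
  · rintro ⟨b', b⟩ ⟨⟨h, h'⟩, hK⟩
    simp only [one_mulVec] at h h' hK
    obtain ⟨r, hr, rfl⟩ := (isRoot_iff hpE8 _ _).1 (E7.rt_iff.1 h)
    obtain ⟨s, hs⟩ := h3 ⟨r, hr⟩ fun k hk => hK k fun ⟨i, _, e⟩ => hk i e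
    have e : x (vec C n s) = vec chevE8 8 r := funext fun k => by
      by_cases e : k ∈ Set.range ι
      · obtain ⟨i, rfl⟩ := e
        exact (x1 _ i).trans (hs i)
      · exact (x2 _ k e).trans (hK k fun ⟨i, _, e'⟩ => e ⟨i, e'⟩).symm
    refine ⟨pr C n B s, ⟨⟨s, rfl⟩, (supp hp s K).2 fun i hi => (hs i).trans (hK _ fun ⟨j, hj, e'⟩ => hi (hι e' ▸ hj))⟩,
      Prod.ext (funext fun j => ?_) e⟩
    have h5 := h' (Pi.single j 1)
    rw [bf, dotProduct_mulVec, dotProduct_single, dotProduct_single, mul_one, mul_one] at h5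
    exact (congrArg (fun v => (v ᵥ* C8) j) e).trans h5.symm
  · rintro _ ⟨⟨s, rfl⟩, -⟩ _ ⟨⟨t, rfl⟩, -⟩
    exact (dotProduct_mulVec _ _ _).symm.trans ((x4 _ _).trans (h4 t _).symm)

/-- equality of kinds -/
@[reducible] def kd : DecidableEq Kd := fun a b => by
  cases a <;> cases b <;> first | exact isTrue rfl | exact isFalse Kd.noConfusion

attribute [local instance] kd

/-- the standard pair of a vector -/
def sp {N : ℕ} (u : Fin N → ℤ) : Vec (Fin N) × Vec (Fin N) := (u, fun i => 2 * u i / (u ⬝ᵥ u))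

/-- `r` is the image of a root without `c` -/
def Hit (C : ChevalleyDatum) (n : ℕ) (c : Fin n) {N : ℕ} (T : Matrix (Fin n) (Fin N) ℤ) (r : Vec (Fin N) × Vec (Fin N)) : Prop :=
  ∃ s : Fin C.nroots, vec C n s c = 0 ∧ sp (vec C n s ᵥ* T) = r

/-- a certificate for the roots without `c` -/
def Cert (C : ChevalleyDatum) (n : ℕ) (B : Fin n → Fin n → ℤ) (c : Fin n) {N : ℕ} (κ : Kd) (blk : Fin N → ℕ)
    (T : Matrix (Fin n) (Fin N) ℤ) (S : Matrix (Fin N) (Fin n) ℤ) : Prop :=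
  (∀ s : Fin C.nroots, vec C n s c = 0 → sp (vec C n s ᵥ* T) ∈ std κ blk ∧ (vec C n s ᵥ* T) ᵥ* S = (2 : ℤ) • vec C n s ∧
    ∀ j, j ≠ c → (T *ᵥ (sp (vec C n s ᵥ* T)).2) j = cv B (vec C n s) j) ∧
  (∀ i j, i ≠ j → blk i = blk j → Hit C n c T (Pi.single i 1 - Pi.single j 1, Pi.single i 1 - Pi.single j 1)) ∧
  (∀ i j, ∀ s : ℤˣ, i ≠ j → blk i = 0 → blk j = 0 →
    Hit C n c T (Pi.single i (s : ℤ) + Pi.single j (s : ℤ), Pi.single i (s : ℤ) + Pi.single j (s : ℤ))) ∧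
  (∀ i, ∀ s : ℤˣ, blk i = 0 → (κ = .B → Hit C n c T (Pi.single i (s : ℤ), Pi.single i (2 * s : ℤ))) ∧
    (κ = .C → Hit C n c T (Pi.single i (2 * s : ℤ), Pi.single i (s : ℤ)))) ∧ #{i | blk i = 0} ≤ 3

instance Cert.dec (C : ChevalleyDatum) (n : ℕ) (B : Fin n → Fin n → ℤ) (c : Fin n) {N : ℕ} (κ : Kd) (blk : Fin N → ℕ)
    (T : Matrix (Fin n) (Fin N) ℤ) (S : Matrix (Fin N) (Fin n) ℤ) : Decidable (Cert C n B c κ blk T S) := by
  have : ∀ r, Decidable (r ∈ std κ blk) := fun r => inferInstanceAs (Decidable (_ ∨ _ ∨ _))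
  unfold Cert Hit
  infer_instance

theorem Cert.ex (hp : IsType C n M) {c : Fin n} {N : ℕ} {κ : Kd} {blk : Fin N → ℕ} {T : Matrix (Fin n) (Fin N) ℤ}
    {S : Matrix (Fin N) (Fin n) ℤ} (h : Cert C n B c κ blk T S) {K : Finset (Fin n)} (hc : c ∉ K) :
    Ex (lev (Ph C n B) (ind K)) := by
  obtain ⟨h1, h2, h3, h4, h5⟩ := h
  obtain ⟨blk', k1, k2⟩ := X.Adm.lev_std κ blk (S *ᵥ ind K)
  have k3 : ∀ s : Fin C.nroots, vec C n s c = 0 → (vec C n s ᵥ* T ⬝ᵥ S *ᵥ ind K = 0 ↔ vec C n s ⬝ᵥ ind K = 0) := fun s hs => by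
    rw [dotProduct_mulVec, (h1 s hs).2.1, smul_dotProduct, smul_eq_mul, mul_eq_zero, or_iff_right two_ne_zero]
  refine ⟨N, κ, blk', iso_trans (iso_of (fun a => sp (a.1 ᵥ* T)) ⟨?_, ?_, ?_⟩ ?_) k2, .inl ?_⟩
  · rintro _ ⟨⟨s, rfl⟩, h⟩
    have hs := (supp hp s K).1 h c hc
    exact ⟨(h1 s hs).1, (k3 s hs).2 h⟩
  · rintro _ ⟨⟨s, rfl⟩, h⟩ _ ⟨⟨t, rfl⟩, h'⟩ e
    have e1 := (h1 s ((supp hp s K).1 h c hc)).2.1
    rw [show vec C n s ᵥ* T = vec C n t ᵥ* T from congrArg Prod.fst e, (h1 t ((supp hp t K).1 h' c hc)).2.1] at e1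
    rw [pr, pr, smul_right_injective _ two_ne_zero e1]
  · rintro r ⟨hr, h⟩
    obtain ⟨s, hs, rfl⟩ : Hit C n c T r := by
      rcases hr with ⟨i, j, a, b, rfl⟩ | ⟨i, j, s, a, b, d, rfl⟩ | ⟨i, s, a, ⟨b, rfl⟩ | ⟨b, rfl⟩⟩
      exacts [h2 i j a b, h3 i j s a b d, (h4 i s a).1 b, (h4 i s a).2 b]
    exact ⟨pr C n B s, ⟨⟨s, rfl⟩, (k3 s hs).1 h⟩, rfl⟩
  · rintro _ ⟨⟨s, rfl⟩, h⟩ _ ⟨⟨t, rfl⟩, h'⟩
    refine (dotProduct_mulVec _ T _).symm.trans (sum_congr rfl fun j _ => ?_)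
    by_cases e : j = c
    · rw [e, show (pr C n B s).1 c = 0 from (supp hp s K).1 h c hc, zero_mul, zero_mul]
    · exact congrArg _ ((h1 t ((supp hp t K).1 h' c hc)).2.2 j e)
  · rw [Nat.card_eq_fintype_card, Fintype.card_subtype]
    exact (card_le_card fun i hi => mem_filter.2 ⟨mem_univ i, k1 i (mem_filter.1 hi).2⟩).trans h5

theorem g0 : Cert chevG2 2 BG2 0 .D ![1, 1] !![0, 0; 1, -1] !![0, 2; 0, 0] := by decide +kernel

theorem g1 : Cert chevG2 2 BG2 1 .D ![1, 1] !![1, -1; 0, 0] !![2, 0; 0, 0] := by decide +kernel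

theorem f0 : Cert chevF4 4 BF4 0 .B ![0, 0, 0] !![0, 0, 0; 0, 0, 1; 0, 1, -1; 1, -1, 0] !![0, 2, 2, 2; 0, 2, 2, 0; 0, 2, 0, 0] := by
  decide +kernel

theorem f1 : Cert chevF4 4 BF4 1 .D ![1, 1, 2, 2, 2] !![1, -1, 0, 0, 0; 0, 0, 0, 0, 0; 0, 0, 1, -1, 0; 0, 0, 0, 1, -1]
    !![2, 0, 0, 0; 0, 0, 0, 0; 0, 0, 2, 2; 0, 0, 0, 2; 0, 0, 0, 0] := by decide +kernel

theorem f2 : Cert chevF4 4 BF4 2 .D ![1, 1, 1, 2, 2] !![1, -1, 0, 0, 0; 0, 1, -1, 0, 0; 0, 0, 0, 0, 0; 0, 0, 0, 1, -1]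
    !![2, 2, 0, 0; 0, 2, 0, 0; 0, 0, 0, 0; 0, 0, 0, 2; 0, 0, 0, 0] := by decide +kernel

theorem f3 : Cert chevF4 4 BF4 3 .C ![0, 0, 0] !![1, -1, 0; 0, 1, -1; 0, 0, 2; 0, 0, 0] !![2, 2, 1, 0; 0, 2, 1, 0; 0, 0, 1, 0] := by
  decide +kernel

theorem miss {K : Finset (Fin n)} (h : K ≠ univ) : ∃ c, c ∉ K := not_forall.1 fun k => h (eq_univ_of_forall k)

/-- all standard Levi subsystems of `D₄` -/
theorem d4 (K : Finset (Fin 4)) : Ex (lev PD4 (ind K)) :=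
  ex_iso (iso_sl hpD4 fb_D4 ![1, 3, 2, 4] (by decide) (by decide +kernel) (by decide +kernel) K)
    (E7.boxEx _ ⟨0, by decide, fun ⟨i, _, e⟩ => (by decide : ∀ i : Fin 4, (![1, 3, 2, 4] : Fin 4 → Fin 8) i ≠ 0) i e⟩)

end ExU

open ExU in
/-- **the proper standard Levi subsystems** -/
theorem boxEx : BoxEx where
  g2 K h := by
    obtain ⟨c, hc⟩ := miss h
    fin_cases c
    exacts [g0.ex hpG2 hc, g1.ex hpG2 hc]
  f4 K h := by
    obtain ⟨c, hc⟩ := miss h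
    fin_cases c
    exacts [f0.ex hpF4 hc, f1.ex hpF4 hc, f2.ex hpF4 hc, f3.ex hpF4 hc]
  d4 K _ := d4 K
  e6 K h := by
    obtain ⟨c, hc⟩ := miss h
    exact ex_iso (iso_sl hpE6 fb_E6 (Fin.castLE (by decide)) (Fin.castLE_injective _) (by decide +kernel) (by decide +kernel) K)
      (E7.boxEx _ ⟨Fin.castLE (by decide) c, c.2, fun ⟨i, hi, e⟩ => hc (Fin.castLE_injective _ e ▸ hi)⟩)
  e8 K h := by
    obtain ⟨c, hc, hK⟩ := not_subset.1 h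
    exact ex_iso (iso_sl hpE8 fb_E8 id Function.injective_id (by decide +kernel) (fun r _ => ⟨r, fun _ => rfl⟩) K)
      (E7.boxEx _ ⟨c, (by decide : ∀ c ∈ ({0, 1, 2, 3, 4, 5} : Finset (Fin 8)), c.1 < 6) c hc,
        fun ⟨i, hi, e⟩ => hK ((show i = c from e) ▸ hi)⟩)

end Cfsg.Agent.HZ.L.U
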