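import Cfsg.Agent.HZ.L.U.Box

/-!
# HZ/L/U: Kac coordinates at `2`, standard position (helper14)
-/

set_option autoImplicit false
set_option linter.unusedSectionVars false

namespace Cfsg.Agent.HZ.L.U

open Cfsg Cfsg.Lie Cfsg.Agent.DL Cfsg.Agent.Nodes.Reps Matrix Finset Cfsg.Agent.KZ.DatX Cfsg.Agent.Nodes.RGDChev
  Cfsg.Agent.ChevalleyStructure.NPerm Cfsg.Agent.ChevalleyStructure.CoxeterGeom
  Cfsg.Agent.ChevalleyStructure.CoxeterGeomTypes Cfsg.Agent.Tits.Roots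
open Cfsg.Agent.H931.KC (hr exists_ok exists_dom)
open Cfsg.Agent.KM.Ex (sr_dot)
open Cfsg.Agent.KM.Tor (Rn Cl Pp RP kacD act_inv_act act_act_inv rt_act of_pos dot_Wm')

variable {C : ChevalleyDatum} {n : ℕ} {M : CoxeterMatrix (Fin n)} {hp : IsType C n M} {r : ℕ} [Fact r.Prime] {k : Type}
  [Field k] [CharP k r] [IsAlgClosed k] {Mx : Matrix (Fin n) (Fin n) ℤ} (X : XF hp r k Mx) {B : Fin n → Fin n → ℤ}
  {a : Vec (Fin n) × Vec (Fin n)} {K : Finset (Fin n)}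

theorem mem_Ph : a ∈ Ph C n B ↔ X.D.Rt a.1 ∧ a.2 = cv B a.1 :=
  ⟨fun ⟨s, e⟩ => e ▸ ⟨KM.Tor.rt_vec X s, rfl⟩, fun ⟨h1, h2⟩ => by
    obtain ⟨s, hs, e⟩ := (X.rt_iff a.1).1 h1
    exact ⟨⟨s, hs⟩, Prod.ext e.symm (h2.trans (congrArg _ e.symm))⟩⟩

theorem rt_mem_Ph {b : Fin n → ℤ} (h : X.D.Rt b) : (b, cv B b) ∈ Ph C n B := (mem_Ph X).2 ⟨h, rfl⟩

include X in
theorem sr_mem_Ph (h : FB C n B) (i : Fin n) : (sr i, cartanOf C n i) ∈ Ph C n B :=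
  (mem_Ph X).2 ⟨isRoot_sr _ _ i, (X.cor_sr i).symm.trans (cor_cv X h (isRoot_sr _ _ i))⟩

include X in
theorem neg_mem_Ph (h : FB C n B) (ha : a ∈ Ph C n B) : -a ∈ Ph C n B := by
  obtain ⟨h1, h2⟩ := (mem_Ph X).1 ha
  exact (mem_Ph X).2 ⟨h1.neg, (congrArg Neg.neg (h2.trans (cor_cv X h h1).symm)).trans
    ((X.D.cor_neg h1).symm.trans (cor_cv X h h1.neg))⟩

/-- the Weyl group -/
theorem isg_act (h : FB C n B) (u : X.D.W) {p' p : (Fin n → ℤ) → Prop} (e : ∀ a, X.D.Rt a → (p' a ↔ p (X.D.act u a))) :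
    Isg (R := Fin n) (R' := Fin n) (X.D.Wm u) (X.D.Wm u⁻¹) 1 {a | a ∈ Ph C n B ∧ p' a.1} {a | a ∈ Ph C n B ∧ p a.1} := by
  have key : ∀ b, X.D.Rt b → Mt (R := Fin n) (R' := Fin n) (X.D.Wm u) (b, cv B b) (X.D.act u b, cv B (X.D.act u b)) :=
    fun b hb => ⟨(X.D.wt_act u b).symm, (congrArg (X.D.Wm u *ᵥ ·) (cor_cv X h hb).symm).trans
      ((X.D.cor_act u hb).symm.trans (cor_cv X h (hb.act u)))⟩
  refine ⟨odd_one, ?_, ?_, fun a ha => ?_, fun a ha => ?_⟩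
  · exact ((X.D.Wm_mul _ _).symm.trans ((congrArg _ (mul_inv_cancel u)).trans X.D.Wm_one)).trans (one_smul _ _).symm
  · exact ((X.D.Wm_mul _ _).symm.trans ((congrArg _ (inv_mul_cancel u)).trans X.D.Wm_one)).trans (one_smul _ _).symm
  · obtain ⟨h1, h2⟩ := (mem_Ph X).1 ha.1
    exact ⟨_, ⟨rt_mem_Ph X (h1.act u), (e _ h1).1 ha.2⟩, (Prod.ext rfl h2 : a = (a.1, cv B a.1)) ▸ key _ h1⟩
  · obtain ⟨h1, h2⟩ := (mem_Ph X).1 ha.1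
    have h3 := act_act_inv (X := X.D) u a.1
    refine ⟨_, ⟨rt_mem_Ph X (h1.act u⁻¹), (e _ (h1.act u⁻¹)).2 ((congrArg p h3).mpr ha.2)⟩, ?_⟩
    exact (congrArg (Mt (R := Fin n) (R' := Fin n) _ _) (Prod.ext h3 ((congrArg (cv B) h3).trans h2.symm))).mp (key _ (h1.act u⁻¹))

include X in
/-- **Kac coordinates** -/
theorem ky (h : FB C n B) : KY C n B := fun lam x e hI => by
  obtain ⟨t, ht⟩ := (X.D.finite_roots.image fun a : Fin n → ℤ => (a ⬝ᵥ lam).natAbs).bddAbove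
  have h0 : ∀ a : Fin n → ℤ, a ⬝ᵥ ((2 : ℤ) ^ t • x + lam) = 2 ^ t * (a ⬝ᵥ x) + a ⬝ᵥ lam := fun a => by
    rw [dotProduct_add, dotProduct_smul, smul_eq_mul]
  have h2 : (2 : ℤ) ^ t ≠ 0 := pow_ne_zero _ two_ne_zero
  have h1 : ∀ a : Fin n → ℤ, X.D.Rt a → (2 ^ t * 2 ^ e ∣ a ⬝ᵥ ((2 : ℤ) ^ t • x + lam) ↔ a ⬝ᵥ lam = 0 ∧ 2 ^ e ∣ a ⬝ᵥ x) :=
    fun a ha => by
      rw [h0]
      refine ⟨fun h1 => ?_, fun h1 => by rw [h1.1, add_zero]; exact mul_dvd_mul_left _ h1.2⟩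
      have h3 : a ⬝ᵥ lam = 0 := Int.eq_zero_of_dvd_of_natAbs_lt_natAbs
        ((dvd_add_right (dvd_mul_right _ _)).1 ((dvd_mul_right _ _).trans h1)) (by
          rw [Int.natAbs_pow]
          exact (ht ⟨a, ha, rfl⟩).trans_lt Nat.lt_two_pow_self)
      rw [h3, add_zero] at h1
      exact ⟨h3, (mul_dvd_mul_iff_left h2).1 h1⟩
  have h4 : ∀ a : Fin n → ℤ, X.D.Rt a → (a ⬝ᵥ lam = 0 ↔ a ∈ Cl X.D (Rn X.D (2 ^ t * 2 ^ e) ((2 : ℤ) ^ t • x + lam))) :=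
    fun a ha => ⟨fun h4 => ⟨ha, fun v hv => hI v (fun b hb h5 => hv b.1 ⟨((mem_Ph X).1 hb.1).1,
      (h1 _ ((mem_Ph X).1 hb.1).1).2 ⟨hb.2, h5⟩⟩) _ ⟨rt_mem_Ph X ha, h4⟩⟩, fun h4 => h4.2 lam fun b hb => ((h1 b hb.1).1 hb.2).1⟩
  rcases kacD X Nat.prime_two (m := 2 ^ t * 2 ^ e) (by positivity) ((2 : ℤ) ^ t • x + lam) with
    ⟨c, k1, k2⟩ | ⟨w, s, c, k1, k2, -, -, k3, k4, k5⟩
  · refine .inl fun a ha => ((h1 _ ((mem_Ph X).1 ha.1).1).1 (IsCoprime.dvd_of_dvd_mul_left ?_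
      (k2 _ ((h4 _ ((mem_Ph X).1 ha.1).1).1 ha.2)))).2
    rw [← pow_add]
    exact (Int.prime_two.coprime_iff_not_dvd.2 k1).pow_left
  · refine .inr ⟨s, X.D.Wm w⁻¹, X.D.Wm w⁻¹⁻¹, k1, k2, isg_act X h w⁻¹ (p' := fun a => a ⬝ᵥ lam = 0) fun a ha =>
      (h4 a ha).trans ((Set.ext_iff.1 k4 a).trans (and_iff_right (ha.act w⁻¹))), ?_, fun j hj a ha => ?_⟩
    · rw [show {a | a ∈ lev (Ph C n B) lam ∧ (2 : ℤ) ^ e ∣ a.1 ⬝ᵥ x} = {a | a ∈ Ph C n B ∧ a.1 ⬝ᵥ lam = 0 ∧ (2 : ℤ) ^ e ∣ a.1 ⬝ᵥ x}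
        from Set.ext fun _ => and_assoc]
      exact isg_act X h w⁻¹ (p' := fun a => a ⬝ᵥ lam = 0 ∧ (2 : ℤ) ^ e ∣ a ⬝ᵥ x) fun a ha =>
        (h1 a ha).symm.trans ((and_iff_right ha).symm.trans ((Set.ext_iff.1 k3 a).trans (and_iff_right (ha.act w⁻¹))))
    · have h5 : 2 ^ t * 2 ^ e ∣ hr C n j * (a.1 ⬝ᵥ ((2 : ℤ) ^ t • x + lam)) := k5 j hj _ ((h4 _ ((mem_Ph X).1 ha.1).1).1 ha.2)
      rw [h0, ha.2, add_zero, mul_left_comm] at h5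
      exact (mul_dvd_mul_iff_left h2).1 h5

theorem dot_dom {v b : Fin n → ℤ} (hv : ∀ i, 0 ≤ v i) (hb : X.D.Rt b) : b ⬝ᵥ v = 0 ↔ ∀ i, v i ≠ 0 → b i = 0 := by
  refine of_pos X (Q := fun a => a ⬝ᵥ v = 0 ↔ ∀ i, v i ≠ 0 → a i = 0) (fun a h => by
    simpa only [neg_dotProduct, Pi.neg_apply, neg_eq_zero] using h) (fun a _ h0 => ?_) b hb
  refine (sum_eq_zero_iff_of_nonneg fun i _ => mul_nonneg (h0 i) (hv i)).trans ?_
  exact ⟨fun h1 i hi => (mul_eq_zero.1 (h1 i (mem_univ _))).resolve_right hi,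
    fun h1 i _ => mul_eq_zero.2 (or_iff_not_imp_right.2 (h1 i))⟩

theorem dot_ind {b : Fin n → ℤ} (hb : X.D.Rt b) : b ⬝ᵥ ind K = 0 ↔ ∀ i, i ∉ K → b i = 0 :=
  (dot_dom X (fun i => by unfold ind; split_ifs <;> decide) hb).trans (forall_congr' fun i => by simp [ind])

include X in
/-- **standard position** -/
theorem sp (h : FB C n B) : SP C n B := fun lam => by
  obtain ⟨_, _, _, _, H⟩ := exists_ok hp
  obtain ⟨w, hw⟩ : ∃ w : X.D.W, ∀ i : Fin n, 0 ≤ X.D.wt (X.D.act w (sr i)) ⬝ᵥ lam := exists_dom hp H (H931.KC.psi lam)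
  obtain ⟨v, hv⟩ : ∃ v : Fin n → ℤ, ∀ a : Fin n → ℤ, a ⬝ᵥ v = X.D.wt (X.D.act w a) ⬝ᵥ lam := ⟨_, fun a => dot_Wm' (X := X.D) w a lam⟩
  refine ⟨univ.filter fun i => v i = 0, X.D.Wm w⁻¹, X.D.Wm w⁻¹⁻¹, ?_, isg_act X h w⁻¹ (p' := fun a => a ⬝ᵥ lam = 0)
    (p := fun a => a ⬝ᵥ ind (univ.filter fun i => v i = 0) = 0) fun a ha => ?_⟩
  · simpa only [and_true, Set.ofPred_mem_eq] using isg_act X h w⁻¹ (p' := fun _ => True) (p := fun _ => True) fun _ _ => Iff.rfl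
  · refine Iff.trans ?_ (dot_ind X (ha.act w⁻¹)).symm
    simp only [mem_filter, mem_univ, true_and]
    refine Iff.trans ?_ (dot_dom X (fun i => (hw i).trans_eq ((hv _).symm.trans (sr_dot i v))) (ha.act w⁻¹))
    exact (congrArg (· = 0) ((hv _).trans (congrArg (fun z => X.D.wt z ⬝ᵥ lam) (act_act_inv (X := X.D) w a)))).to_iff.symm

include X

theorem mem_lev_ind : a ∈ lev (Ph C n B) (ind K) ↔ a ∈ Ph C n B ∧ ∀ i, i ∉ K → a.1 i = 0 :=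
  and_congr_right fun h => dot_ind X ((mem_Ph X).1 h).1

theorem sr_mem_lev (h : FB C n B) {i : Fin n} (hi : i ∈ K) : (sr i, cartanOf C n i) ∈ lev (Ph C n B) (ind K) :=
  (mem_lev_ind X).2 ⟨sr_mem_Ph X h i, fun _ hj => sr_ne fun e => hj (e ▸ hi)⟩

theorem cw_mem_Qv (h : FB C n B) {i : Fin n} (hi : i ∈ K) : cartanOf C n i ∈ Qv (lev (Ph C n B) (ind K)) :=
  Submodule.subset_span ⟨_, sr_mem_lev X h hi, rfl⟩

theorem mem_Qx_ind (h : FB C n B) {x : Fin n → ℤ} : x ∈ Qx (lev (Ph C n B) (ind K)) ↔ ∀ i, i ∉ K → x i = 0 := by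
  refine ⟨fun hx i hi => ?_, fun hx => ?_⟩
  · induction hx using Submodule.span_induction with
    | mem _ hy => obtain ⟨a, ha, rfl⟩ := hy; exact ((mem_lev_ind X).1 ha).2 i hi
    | zero => rfl
    | add _ _ _ _ h1 h2 => rw [Pi.add_apply, h1, h2, add_zero]
    | smul _ _ _ h1 => rw [Pi.smul_apply, h1, smul_zero]
  · rw [X.D.eq_sum_sr x]
    refine Submodule.sum_mem _ fun i _ => (em (i ∈ K)).elim (fun hi => Submodule.smul_mem _ _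
      (Submodule.subset_span ⟨_, sr_mem_lev X h hi, rfl⟩)) fun hi => ?_
    exact (congrArg (fun c : ℤ => c • (sr i : Fin n → ℤ)) (hx i hi)).symm ▸ (zero_smul ℤ (sr i : Fin n → ℤ)).symm ▸ zero_mem _

theorem tf_ind (h : FB C n B) (K : Finset (Fin n)) : ∀ x ∈ Qx (lev (Ph C n B) (ind K)), (∀ j, (2 : ℤ) ∣ x j) →
    ∃ y ∈ Qx (lev (Ph C n B) (ind K)), x = (2 : ℤ) • y := fun x hx h1 =>
  ⟨fun j => x j / 2, (mem_Qx_ind X h).2 fun i hi => by rw [(mem_Qx_ind X h).1 hx i hi, Int.zero_ediv],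
    funext fun j => (Int.mul_ediv_cancel' (h1 j)).symm⟩

theorem perp_ind (h : FB C n B) {v : Fin n → ℤ} : Perp (lev (Ph C n B) (ind K)) v ↔ ∀ i ∈ K, v i = 0 :=
  ⟨fun hv i hi => (sr_dot i v).symm.trans (hv _ (sr_mem_lev X h hi)), fun hv a ha => sum_eq_zero fun i _ =>
    (em (i ∈ K)).elim (fun hi => by rw [hv i hi, mul_zero]) fun hi => by rw [((mem_lev_ind X).1 ha).2 i hi, zero_mul]⟩

theorem top_Ph (h : FB C n B) : Top (Ph C n B) := fun v hv => funext fun i => (sr_dot i v).symm.trans (hv _ (sr_mem_Ph X h i))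

theorem top_ind (h : FB C n B) : Top (lev (Ph C n B) (ind K)) ↔ K = univ :=
  ⟨fun h1 => eq_univ_of_forall fun i => by_contra fun hi => one_ne_zero ((sr_self i).symm.trans
    (congrFun (h1 (sr i) ((perp_ind X h).2 fun _ hj => sr_ne fun e => hi (e ▸ hj))) i)),
    fun e _ hv => funext fun i => (perp_ind X h).1 hv i (e ▸ mem_univ i)⟩

omit X in
theorem lev_univ (Ψ : RS (Fin n)) : lev Ψ (ind univ) = Ψ := by
  rw [show ind (univ : Finset (Fin n)) = 0 from funext fun i => if_pos (mem_univ i), lev_zero]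

theorem ncard_sep (p : Vec (Fin n) × Vec (Fin n) → Prop) [DecidablePred p] :
    {a | a ∈ Ph C n B ∧ p a}.ncard = #{s : Fin C.nroots | p (pr C n B s)} := by
  have e : {a | a ∈ Ph C n B ∧ p a} = (fun s : Fin C.nroots => pr C n B s) '' ↑({s : Fin C.nroots | p (pr C n B s)} : Finset _) :=
    Set.ext fun a => ⟨fun ⟨⟨s, e⟩, h⟩ => ⟨s, mem_coe.2 (mem_filter.2 ⟨mem_univ _, e ▸ h⟩), e.symm⟩,
      fun ⟨s, hs, e⟩ => e ▸ ⟨⟨s, rfl⟩, (mem_filter.1 (mem_coe.1 hs)).2⟩⟩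
  exact (congrArg Set.ncard e).trans ((Set.ncard_image_of_injective _ fun a b e =>
    Fin.ext (vec_inj hp a.2 b.2 (congrArg Prod.fst e))).trans (Set.ncard_coe_finset _))

omit X in
theorem finite_Ph : (Ph C n B).Finite := (Set.finite_range fun s : Fin C.nroots => pr C n B s).subset fun _ ⟨s, e⟩ => ⟨s, e.symm⟩

theorem fam_of_std (h : FB C n B) (hI : ∀ (P Q : Mat (Fin n)) (Ψ' Ψ : RS (Fin n)), Isg P Q 1 Ψ' Ψ → Loc Ψ → Loc Ψ')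
    (H : ∀ K, Loc (lev (Ph C n B) (ind K))) : Fam (Ph C n B) := fun lam =>
  let ⟨K, P, Q, _, h2⟩ := sp X h lam
  hI P Q _ _ h2 (H K)

end Cfsg.Agent.HZ.L.U
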