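import Cfsg.Agent.HZ.L.U.Defs
import Cfsg.Agent.KM.Tor.K0

/-!
# HZ/L/U: the root systems of the adjoint frames in coordinates, the boxes (helper95)
-/

set_option autoImplicit false
set_option linter.unusedSectionVars false

namespace Cfsg.Agent.HZ.L.U

open Cfsg Cfsg.Lie Cfsg.Agent.DL Cfsg.Agent.Nodes.Reps Matrix Finset Cfsg.Agent.KZ.DatX Cfsg.Agent.Nodes.RGDChev
  Cfsg.Agent.ChevalleyStructure.NPerm Cfsg.Agent.ChevalleyStructure.CoxeterGeom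
  Cfsg.Agent.ChevalleyStructure.CoxeterGeomTypes Cfsg.Agent.Tits.Roots
open Cfsg.Agent.H931.KC (hr)
open Cfsg.Agent.H92.NE (bl bl_apply bl_comm bl_sr bl_sr_sr FormOK bl_rep)
open Cfsg.Agent.KM.Ex (sr_dot)

/-- the coroot of `a` for the invariant form `B` -/
def cv {n : ℕ} (B : Fin n → Fin n → ℤ) (a : Fin n → ℤ) : Fin n → ℤ := fun j => 2 * bl B a (sr j) / bl B a a

/-- the pair with the index `s` -/
def pr (C : ChevalleyDatum) (n : ℕ) (B : Fin n → Fin n → ℤ) (s : ℕ) : Vec (Fin n) × Vec (Fin n) :=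
  (vec C n s, cv B (vec C n s))

/-- the adjoint root system in coordinates -/
def Ph (C : ChevalleyDatum) (n : ℕ) (B : Fin n → Fin n → ℤ) : RS (Fin n) := {a | ∃ s : Fin C.nroots, a = pr C n B s}

/-- `lev (Ph C n B) (ind K)` is the standard Levi subsystem with the simple roots `K` -/
def ind {n : ℕ} (K : Finset (Fin n)) : Fin n → ℤ := fun i => if i ∈ K then 0 else 1

def BG2 : Fin 2 → Fin 2 → ℤ := ![![2, -3], ![-3, 6]]

def BF4 : Fin 4 → Fin 4 → ℤ := ![![2, -1, 0, 0], ![-1, 2, -2, 0], ![0, -2, 4, -2], ![0, 0, -2, 4]]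

/-- an invariant form -/
def FB (C : ChevalleyDatum) (n : ℕ) (B : Fin n → Fin n → ℤ) : Prop := FormOK C n B ∧ ∀ i, 0 < B i i

instance FB.dec (C : ChevalleyDatum) (n : ℕ) (B : Fin n → Fin n → ℤ) : Decidable (FB C n B) := by
  unfold FB; infer_instance

theorem fb_G2 : FB chevG2 2 BG2 := by decide +kernel

theorem fb_F4 : FB chevF4 4 BF4 := by decide +kernel

theorem fb_D4 : FB chevD4 4 (cartanOf chevD4 4) := by decide +kernel

theorem fb_E6 : FB chevE6 6 (cartanOf chevE6 6) := by decide +kernel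

theorem fb_E8 : FB chevE8 8 (cartanOf chevE8 8) := by decide +kernel

abbrev PG2 : RS (Fin 2) := Ph chevG2 2 BG2

abbrev PF4 : RS (Fin 4) := Ph chevF4 4 BF4

abbrev PD4 : RS (Fin 4) := Ph chevD4 4 (cartanOf chevD4 4)

abbrev PE6 : RS (Fin 6) := Ph chevE6 6 (cartanOf chevE6 6)

abbrev PE8 : RS (Fin 8) := Ph chevE8 8 (cartanOf chevE8 8)

/-- the proper standard Levi subsystems are of exact type -/
structure BoxEx : Prop where
  g2 : ∀ K : Finset (Fin 2), K ≠ univ → Ex (lev PG2 (ind K))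
  f4 : ∀ K : Finset (Fin 4), K ≠ univ → Ex (lev PF4 (ind K))
  d4 : ∀ K : Finset (Fin 4), K ≠ univ → Ex (lev PD4 (ind K))
  e6 : ∀ K : Finset (Fin 6), K ≠ univ → Ex (lev PE6 (ind K))
  e8 : ∀ K : Finset (Fin 8), ¬ ({0, 1, 2, 3, 4, 5} : Finset (Fin 8)) ⊆ K → Ex (lev PE8 (ind K))

/-- isolated cocharacters: Kac coordinates.  `w` is a symmetry of the root system. -/
def KY (C : ChevalleyDatum) (n : ℕ) (B : Fin n → Fin n → ℤ) : Prop := ∀ (lam x : Fin n → ℤ) (e : ℕ),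
  IY (lev (Ph C n B) lam) (2 ^ e) x → (∀ a ∈ lev (Ph C n B) lam, (2 : ℤ) ^ e ∣ a.1 ⬝ᵥ x) ∨
    ∃ (s : Finset (Fin n)) (P Q : Mat (Fin n)), s.Nonempty ∧ (∀ i ∈ s, (2 : ℤ) ∣ hr C n i) ∧
      Isg P Q 1 (lev (Ph C n B) lam) {a | a ∈ Ph C n B ∧ KM.Tor.LS C n s a.1} ∧
      Isg P Q 1 {a | a ∈ lev (Ph C n B) lam ∧ (2 : ℤ) ^ e ∣ a.1 ⬝ᵥ x} {a | a ∈ Ph C n B ∧ KM.Tor.RS C n s a.1} ∧
      ∀ j ∈ s, ∀ a ∈ lev (Ph C n B) lam, (2 : ℤ) ^ e ∣ hr C n j * (a.1 ⬝ᵥ x)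

/-- standard position -/
def SP (C : ChevalleyDatum) (n : ℕ) (B : Fin n → Fin n → ℤ) : Prop := ∀ lam : Fin n → ℤ,
  ∃ (K : Finset (Fin n)) (P Q : Mat (Fin n)), Isg P Q 1 (Ph C n B) (Ph C n B) ∧
    Isg P Q 1 (lev (Ph C n B) lam) (lev (Ph C n B) (ind K))

variable {C : ChevalleyDatum} {n : ℕ} {M : CoxeterMatrix (Fin n)} {hp : IsType C n M} {r : ℕ} [Fact r.Prime] {k : Type}
  [Field k] [CharP k r] [IsAlgClosed k] {Mx : Matrix (Fin n) (Fin n) ℤ} (X : XF hp r k Mx) {B : Fin n → Fin n → ℤ}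

theorem cv_rep (h : FB C n B) (w : M.Group) (i j : Fin n) :
    KM.Ex.rp hp w⁻¹ (sr j) ⬝ᵥ cartanOf C n i = cv B (rep M.toCoxeterSystem hp.isCartan w (sr i)) j := by
  have e := bl_rep hp h.1 w (KM.Ex.rp hp w⁻¹ (sr j)) (sr i)
  rw [show rep M.toCoxeterSystem hp.isCartan w (KM.Ex.rp hp w⁻¹ (sr j)) = sr j from rep_apply_inv ..] at e
  have e2 : 2 * bl B (sr i) (KM.Ex.rp hp w⁻¹ (sr j)) = B i i * (KM.Ex.rp hp w⁻¹ (sr j) ⬝ᵥ cartanOf C n i) := by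
    rw [bl_comm h.1.1, bl_sr, dotProduct, mul_sum, mul_sum]
    exact sum_congr rfl fun m _ => by rw [← mul_assoc, h.1.2, mul_assoc, mul_comm (cartanOf C n i m)]
  rw [cv, e, e2, bl_rep hp h.1, bl_sr_sr, Int.mul_ediv_cancel_left _ (h.2 i).ne']

theorem cor_cv (h : FB C n B) {a : Fin n → ℤ} (ha : X.D.Rt a) : X.D.cor a = cv B a := by
  obtain ⟨w, i, rfl⟩ := ha
  refine (X.D.cor_act_sr w i).trans (funext fun j => ?_)
  exact (sr_dot j _).symm.trans ((KM.Tor.dot_Wm (X := X.D) w (sr j) _).trans (cv_rep (hp := hp) h w i j))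

/-- **the root system of a frame** -/
theorem rts_Ph (h : FB C n B) : rts X.D = Ph C n B := Set.ext fun _ =>
  ⟨fun ⟨b, hb, e⟩ => by
    obtain ⟨s, hs, rfl⟩ := (X.rt_iff b).1 hb
    exact ⟨⟨s, hs⟩, e.trans (Prod.ext rfl (cor_cv X h hb))⟩,
  fun ⟨s, e⟩ => ⟨_, KM.Tor.rt_vec X s, e.trans (Prod.ext rfl (cor_cv X h (KM.Tor.rt_vec X s)).symm)⟩⟩

theorem fam_Ph (h : FB C n B) (hF : Fam (Ph C n B)) : Fam (rts X.D) := by
  rw [rts_Ph X h]
  exact hF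

end Cfsg.Agent.HZ.L.U
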