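import Cfsg.Agent.HZ.L.U.Kac
import Cfsg.Agent.HZ.L.U.Isg

/-!
# HZ/L/U: the lattice facts for `E₈` (helper14)
-/

set_option autoImplicit false
set_option linter.unusedSectionVars false
set_option maxRecDepth 100000

namespace Cfsg.Agent.HZ.L.U

open Cfsg Cfsg.Lie Cfsg.Agent.DL Cfsg.Agent.Nodes.Reps Matrix Finset Cfsg.Agent.KZ.DatX Cfsg.Agent.Nodes.RGDChev
  Cfsg.Agent.ChevalleyStructure.NPerm Cfsg.Agent.ChevalleyStructure.CoxeterGeom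
  Cfsg.Agent.ChevalleyStructure.CoxeterGeomTypes Cfsg.Agent.Tits.Roots
open Cfsg.Agent.H931.KC (hr)
open Cfsg.Agent.H92.NE (bl_comm)
open Cfsg.Agent.KM.Ex (sr_dot)
open Cfsg.Agent.KM.Tor (co SL dot_co cor_eq rt_hr)

namespace E8

section Gen

variable {R : Type} [Fintype R] [DecidableEq R] {Ψ : RS R} {η q : Vec R}

theorem dvd_qv {m c : ℤ} (h : ∀ a ∈ Ψ, m ∣ c * (η ⬝ᵥ a.2)) (hq : q ∈ Qv Ψ) : m ∣ c * (η ⬝ᵥ q) := by
  induction hq using Submodule.span_induction with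
  | mem x hx => obtain ⟨a, ha, rfl⟩ := hx; exact h a ha
  | zero => rw [dotProduct_zero, mul_zero]; exact dvd_zero m
  | add _ _ _ _ h1 h2 => rw [dotProduct_add, mul_add]; exact dvd_add h1 h2
  | smul _ _ _ h1 => rw [dotProduct_smul, smul_eq_mul, mul_left_comm]; exact h1.mul_left _

theorem top_lev {lam : Vec R} (h : Top (lev Ψ lam)) : lev Ψ lam = Ψ := by rw [h lam fun _ ha => ha.2, lev_zero]

/-- at the top `Q2` consists of the doubles -/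
theorem q2_top (h : Top Ψ) (h1 : ∀ y, y ∈ Qv Ψ) {m c : ℤ} (h2 : ∀ a ∈ Ψ, m ∣ 2 * c * (η ⬝ᵥ a.2)) (hq : Q2 Ψ q) :
    m ∣ c * (η ⬝ᵥ q) := by
  obtain ⟨-, y, hy⟩ := hq
  rw [← sub_eq_zero.1 (h _ hy), dotProduct_smul, smul_eq_mul, ← mul_assoc, mul_comm c]
  exact dvd_qv h2 (h1 y)

end Gen

section Sl

variable {C : ChevalleyDatum} {n : ℕ}

theorem co_comm (h : SL C n) (a b : Fin n → ℤ) : a ⬝ᵥ co C n b = b ⬝ᵥ co C n a := by rw [dot_co, dot_co, bl_comm h.1.1]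

theorem co_mem {Ψ : RS (Fin n)} {β : Fin n → ℤ} (h : ∀ i, β i ≠ 0 → cartanOf C n i ∈ Qv Ψ) : co C n β ∈ Qv Ψ := by
  rw [show co C n β = ∑ i, β i • cartanOf C n i from funext fun j => by simp only [co, Finset.sum_apply, Pi.smul_apply, smul_eq_mul]]
  exact Submodule.sum_mem _ fun i _ => (em (β i = 0)).elim (fun e => by rw [e, zero_smul]; exact zero_mem _)
    fun e => Submodule.smul_mem _ _ (h i e)

/-- `G` is `f` times the inverse of the Cartan matrix of `K` -/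
def Gk (C : ChevalleyDatum) (n : ℕ) (K : Finset (Fin n)) (f : ℤ) (G : Mat (Fin n)) : Prop :=
  (∀ j i, i ∉ K → G j i = 0 ∧ G i j = 0) ∧ ∀ j, ∀ i ∈ K, co C n (G j) i = if j = i then f else 0

instance Gk.dec (K : Finset (Fin n)) (f : ℤ) (G : Mat (Fin n)) : Decidable (Gk C n K f G) :=
  @instDecidableAnd _ _ (@Fintype.decidableForallFintype _ _ (fun _ => inferInstance) _)
    (@Fintype.decidableForallFintype _ _ (fun _ => inferInstance) _)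

theorem Gk.zero {K : Finset (Fin n)} {f : ℤ} {G : Mat (Fin n)} (h : Gk C n K f G) (y : Fin n → ℤ) {i : Fin n} (hi : i ∉ K) :
    (y ᵥ* G) i = 0 := by
  rw [vecMul, dotProduct]
  exact sum_eq_zero fun j _ => by rw [(h.1 j i hi).1, mul_zero]

theorem co_vecMul (G : Mat (Fin n)) (y : Fin n → ℤ) (i : Fin n) : co C n (y ᵥ* G) i = ∑ j, y j * co C n (G j) i := by
  simp only [co, vecMul, dotProduct, sum_mul, mul_sum, mul_assoc]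
  exact sum_comm

theorem Gk.co {K : Finset (Fin n)} {f : ℤ} {G : Mat (Fin n)} (h : Gk C n K f G) (y : Fin n → ℤ) {i : Fin n} (hi : i ∈ K) :
    co C n (y ᵥ* G) i = f * y i := by
  simp only [co_vecMul, h.2 _ i hi, mul_ite, mul_zero, sum_ite_eq', mem_univ, if_true, mul_comm]

variable {M : CoxeterMatrix (Fin n)} {hp : IsType C n M} {r : ℕ} [Fact r.Prime] {k : Type}
  [Field k] [CharP k r] [IsAlgClosed k] {Mx : Matrix (Fin n) (Fin n) ℤ} (X : XF hp r k Mx) (hB : FB C n (cartanOf C n))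
  (hS : SL C n) {a : Vec (Fin n) × Vec (Fin n)} {K : Finset (Fin n)} {f : ℤ} {G : Mat (Fin n)}
include X hB

theorem co_ind {β : Fin n → ℤ} (h : ∀ i, i ∉ K → β i = 0) : co C n β ∈ Qv (lev (Ph C n (cartanOf C n)) (ind K)) :=
  co_mem fun i hi => cw_mem_Qv X hB (by_contra fun e => hi (h i e))

theorem gk_mem (h : Gk C n K f G) (y : Fin n → ℤ) : co C n (y ᵥ* G) ∈ Qv (lev (Ph C n (cartanOf C n)) (ind K)) :=
  co_ind X hB fun _ => h.zero y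

theorem gk_perp (h : Gk C n K f G) (y : Fin n → ℤ) : Perp (lev (Ph C n (cartanOf C n)) (ind K)) (f • y - co C n (y ᵥ* G)) :=
  (perp_ind X hB).2 fun i hi => by rw [Pi.sub_apply, h.co y hi, Pi.smul_apply, smul_eq_mul, sub_self]

include hS

theorem ph_cor (ha : a ∈ Ph C n (cartanOf C n)) : a.2 = co C n a.1 :=
  let ⟨h1, h2⟩ := (mem_Ph X).1 ha
  h2.trans ((cor_cv X hB h1).symm.trans (cor_eq X hS h1))

theorem ph_dot (ha : a ∈ Ph C n (cartanOf C n)) (η : Fin n → ℤ) : η ⬝ᵥ a.2 = a.1 ⬝ᵥ co C n η := by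
  rw [ph_cor X hB hS ha, co_comm hS]

theorem ix_iff {Ψ : RS (Fin n)} (h : Ψ ⊆ Ph C n (cartanOf C n)) (m : ℤ) (η : Fin n → ℤ) : IX Ψ m η ↔ IY Ψ m (co C n η) :=
  forall_congr' fun _ => imp_congr_left (forall₂_congr fun a ha => by rw [ph_dot X hB hS (h ha)])

end Sl

/-! ### `E₈` -/

local notation "v8" => vec chevE8 8
local notation "c8" => co chevE8 8

def G8 : Mat (Fin 8) := !![4, 5, 7, 10, 8, 6, 4, 2; 5, 8, 10, 15, 12, 9, 6, 3; 7, 10, 14, 20, 16, 12, 8, 4;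
  10, 15, 20, 30, 24, 18, 12, 6; 8, 12, 16, 24, 20, 15, 10, 5; 6, 9, 12, 18, 15, 12, 8, 4; 4, 6, 8, 12, 10, 8, 6, 3;
  2, 3, 4, 6, 5, 4, 3, 2]

def G7 : Mat (Fin 8) := !![4, 4, 6, 8, 6, 4, 2, 0; 4, 7, 8, 12, 9, 6, 3, 0; 6, 8, 12, 16, 12, 8, 4, 0;
  8, 12, 16, 24, 18, 12, 6, 0; 6, 9, 12, 18, 15, 10, 5, 0; 4, 6, 8, 12, 10, 8, 4, 0; 2, 3, 4, 6, 5, 4, 3, 0; 0, 0, 0, 0, 0, 0, 0, 0]

def G6 : Mat (Fin 8) := !![4, 3, 5, 6, 4, 2, 0, 0; 3, 6, 6, 9, 6, 3, 0, 0; 5, 6, 10, 12, 8, 4, 0, 0; 6, 9, 12, 18, 12, 6, 0, 0;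
  4, 6, 8, 12, 10, 5, 0, 0; 2, 3, 4, 6, 5, 4, 0, 0; 0, 0, 0, 0, 0, 0, 0, 0; 0, 0, 0, 0, 0, 0, 0, 0]

def K7 : Finset (Fin 8) := {0, 1, 2, 3, 4, 5, 6}

def K6 : Finset (Fin 8) := {0, 1, 2, 3, 4, 5}

def th : Fin 8 → ℤ := ![1, 1, 2, 2, 1, 0, 0, 0]

theorem sl8 : SL chevE8 8 := by decide +kernel

theorem gk : Gk chevE8 8 univ 1 G8 ∧ Gk chevE8 8 K7 2 G7 ∧ Gk chevE8 8 K6 3 G6 := by decide +kernel

theorem hr8 : hr chevE8 8 = ![2, 3, 4, 6, 5, 4, 3, 2] ∧ c8 (hr chevE8 8) = sr 7 ∧ c8 th = sr 2 - sr 5 ∧ ind K7 = sr 7 ∧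
    ind K6 = sr 6 + sr 7 ∧ cartanOf chevE8 8 7 = (2 : ℤ) • sr 7 - sr 6 ∧ G7ᵀ = G7 ∧
    ∀ j, c8 (G7 j) 7 = (if j = 7 then 2 else 0) - hr chevE8 8 j := by decide +kernel

theorem cnt : (∀ i, i ≠ 7 → #{t : Fin chevE8.nroots | v8 t i = 0} < 126) ∧ #{t : Fin chevE8.nroots | v8 t ⬝ᵥ ind K7 = 0} = 126 ∧
    #{t : Fin chevE8.nroots | v8 t ⬝ᵥ ind K6 = 0} = 72 ∧ #{t : Fin chevE8.nroots | KM.Tor.LS chevE8 8 {2, 5} (v8 t)} = 126 ∧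
    ∀ s ∈ ({{2}, {3}, {5}, {0, 7}} : Finset (Finset (Fin 8))), #{t : Fin chevE8.nroots | KM.Tor.RS chevE8 8 s (v8 t)} < 72 := by
  decide +kernel

theorem rts8 : ∀ t : Fin chevE8.nroots, (v8 t 7 = 0 → ∃ i ∈ K7, ¬ Even (c8 (v8 t) i)) ∧
    (v8 t 7 = 0 ∨ v8 t = hr chevE8 8 ∨ v8 t = -hr chevE8 8 ∨ v8 t 7 = 1 ∨ v8 t 7 = -1) ∧
    (v8 t 6 = 0 → (v8 t 7 = 0 → ∃ i ∈ K6, ¬ Even (c8 (v8 t) i)) ∧ (v8 t 7 ≠ 0 ↔ ∀ i, i ≠ 7 → v8 t i = 0)) := by decide +kernel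

theorem sets : (∀ s : Finset (Fin 8), s.Nonempty → (∀ i ∈ s, (2 : ℤ) ∣ ![2, 3, 4, 6, 5, 4, 3, 2] i) →
    ((∃ j ∈ s, j = 0 ∨ j = 3 ∨ j = 7) ∨ s = {2} ∨ s = {5} ∨ s = {2, 5}) ∧
    (s = {0} ∨ s = {7} ∨ ∃ s' ∈ ({{2}, {3}, {5}, {0, 7}} : Finset (Finset (Fin 8))), s' ⊆ s)) ∧
    (∀ K : Finset (Fin 8), (∀ i, i ≠ 7 → i ∈ K) → K = K7 ∨ K = univ) ∧
    ∀ K : Finset (Fin 8), K6 ⊆ K → 6 ∈ K → K = K7 ∨ K = univ := by decide +kernel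

variable {r : ℕ} [Fact r.Prime] {k : Type} [Field k] [CharP k r] [IsAlgClosed k] {Mx : Matrix (Fin 8) (Fin 8) ℤ}
  (X : XF hpE8 r k Mx) {lam x η : Fin 8 → ℤ} {e : ℕ} {K : Finset (Fin 8)} {a : Vec (Fin 8) × Vec (Fin 8)}
include X

theorem qv_all (y : Fin 8 → ℤ) : y ∈ Qv PE8 := by
  have h := gk_mem X fb_E8 gk.1 y
  rwa [lev_univ, show c8 (y ᵥ* G8) = y from funext fun i => (gk.1.co y (mem_univ i)).trans (one_mul _)] at h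

theorem top_one {P Q : Mat (Fin 8)} {j : Fin 8}
    (h : Isg P Q 1 (lev PE8 lam) {a | a ∈ PE8 ∧ KM.Tor.LS chevE8 8 {j} a.1}) : Top (lev PE8 lam) :=
  h.top_iff.2 fun v hv => top_Ph X fb_E8 v fun a ha => hv a ⟨ha, fun i hi j hj => by rw [mem_singleton.1 hi, mem_singleton.1 hj]⟩

theorem q2_lev (h : Top (lev PE8 lam)) {m c : ℤ} (h2 : ∀ a ∈ lev PE8 lam, m ∣ 2 * c * (a.1 ⬝ᵥ c8 η)) {q : Fin 8 → ℤ}
    (hq : Q2 (lev PE8 lam) q) : m ∣ c * (η ⬝ᵥ q) :=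
  q2_top h ((top_lev h).symm ▸ qv_all X) (fun a ha => (ph_dot X fb_E8 sl8 ha.1 η).symm ▸ h2 a ha) hq

/-- `A₃ A₃ A₁` in `E₇` -/
theorem q25 {q : Fin 8 → ℤ} (h : Q2 {a | a ∈ PE8 ∧ KM.Tor.LS chevE8 8 {2, 5} a.1} q) :
    (2 : ℤ) • q ∈ Qv {a | a ∈ PE8 ∧ KM.Tor.RS chevE8 8 {2, 5} a.1} := by
  obtain ⟨h1, y, h2⟩ := h
  have h3 := dvd_qv (m := 0) (c := 1) (η := th) (fun a ha => by
    have := ha.2 2 (by decide) 5 (by decide)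
    rw [hr8.1] at this
    rw [ph_dot X fb_E8 sl8 ha.1, hr8.2.2.1, dotProduct_sub, dotProduct_comm, dotProduct_comm a.1, sr_dot, sr_dot, zero_dvd_iff]
    change a.1 2 * 4 = a.1 5 * 4 at this
    omega) h1
  have h4 := (sr_dot 0 _).symm.trans (h2 _ ⟨sr_mem_Ph X fb_E8 0, by decide +kernel⟩)
  obtain ⟨m, h5, h6⟩ : ∃ m, (((2 : ℤ) • q) ᵥ* G8) 2 = m * 4 ∧ (((2 : ℤ) • q) ᵥ* G8) 5 = m * 4 := by
    simp [th, dotProduct, Fin.sum_univ_eight] at h3 h4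
    refine ⟨7 * y 0 + 5 * q 1 + 7 * q 2 + 10 * q 3 + 8 * q 4 + 6 * q 5 + 4 * q 6 + 2 * q 7, ?_, ?_⟩ <;>
      simp [vecMul, dotProduct, Fin.sum_univ_eight, G8] <;> omega
  have h7 : (2 : ℤ) • q = c8 (((2 : ℤ) • q) ᵥ* G8 - m • hr chevE8 8) + m • c8 (hr chevE8 8) := funext fun i => by
    rw [← one_mul (((2 : ℤ) • q) i), ← gk.1.co _ (mem_univ i)]
    simp only [co, Pi.add_apply, Pi.smul_apply, Pi.sub_apply, smul_eq_mul, sub_mul, sum_sub_distrib, mul_sum, mul_assoc,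
      sub_add_cancel]
  rw [h7]
  refine add_mem (co_mem fun i hi => Submodule.subset_span ⟨_, ⟨sr_mem_Ph X fb_E8 i, .inl fun j hj => sr_ne ?_⟩, rfl⟩)
    (Submodule.smul_mem _ _ (Submodule.subset_span ⟨_, ⟨rt_mem_Ph X (rt_hr X), .inr (.inl fun _ _ => rfl)⟩,
      ph_cor X fb_E8 sl8 (rt_mem_Ph X (rt_hr X))⟩))
  rintro rfl
  rw [Pi.sub_apply, Pi.smul_apply, hr8.1] at hi
  rcases mem_insert.1 hj with rfl | hj
  · exact hi (sub_eq_zero.2 h5)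
  · obtain rfl := mem_singleton.1 hj
    exact hi (sub_eq_zero.2 h6)

/-- **isolated elements** -/
theorem iso8 (h : IY (lev PE8 lam) (2 ^ e) (c8 η)) : (∀ a ∈ lev PE8 lam, (2 : ℤ) ^ e ∣ 2 * (a.1 ⬝ᵥ c8 η)) ∨
    (∀ a ∈ lev PE8 lam, (2 : ℤ) ^ e ∣ 4 * (a.1 ⬝ᵥ c8 η)) ∧ T4 (lev PE8 lam) ∧
      ∀ q, Q2 (lev PE8 lam) q → (2 : ℤ) ^ e ∣ 2 * (η ⬝ᵥ q) := by
  rcases ky X fb_E8 lam _ e h with h1 | ⟨s, P, Q, h1, h2, h3, h4, h5⟩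
  · exact .inl fun a ha => (h1 a ha).mul_left 2
  rw [hr8.1] at h2 h5
  rcases (sets.1 s h1 h2).1 with ⟨j, hj, rfl | rfl | rfl⟩ | rfl | rfl | rfl
  · exact .inl (h5 0 hj)
  · exact .inl fun a ha => (dvd_odd_mul (z := 3) (by decide) e).1 (mul_assoc (3 : ℤ) 2 _ ▸ h5 3 hj a ha)
  · exact .inl (h5 7 hj)
  · exact .inr ⟨h5 2 (by decide), .inr (top_one X h3), fun q => q2_lev X (top_one X h3) (h5 2 (by decide))⟩
  · exact .inr ⟨h5 5 (by decide), .inr (top_one X h3), fun q => q2_lev X (top_one X h3) (h5 5 (by decide))⟩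
  refine .inr ⟨h5 2 (by decide), .inl (h3.ncard_eq.trans ((ncard_sep X fun a => KM.Tor.LS chevE8 8 {2, 5} a.1).trans
    cnt.2.2.2.1)), fun q hq => ?_⟩
  have h6 := dvd_qv (c := 1) (η := η) (fun a ha => by rw [one_mul, ph_dot X fb_E8 sl8 ha.1.1]; exact ha.2)
    (h4.qv_iff.1 (mulVec_smul P (2 : ℤ) q ▸ q25 X (h3.q2_up hq)))
  rwa [one_mul, dotProduct_smul] at h6

theorem c68 (h : IX (lev PE8 lam) (2 ^ e) η) (h0 : 72 ≤ {a | a ∈ lev PE8 lam ∧ (2 : ℤ) ^ e ∣ η ⬝ᵥ a.2}.ncard) :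
    (∀ a ∈ lev PE8 lam, (2 : ℤ) ^ e ∣ η ⬝ᵥ a.2) ∨ T4 (lev PE8 lam) ∧ ∀ q, Q2 (lev PE8 lam) q → (2 : ℤ) ^ e ∣ η ⬝ᵥ q := by
  rcases ky X fb_E8 lam _ e ((ix_iff X fb_E8 sl8 (lev_sub _ _) _ _).1 h) with h1 | ⟨s, P, Q, h1, h2, h3, h4, h5⟩
  · exact .inl fun a ha => (ph_dot X fb_E8 sl8 ha.1 η).symm ▸ h1 a ha
  rw [hr8.1] at h2 h5
  rcases (sets.1 s h1 h2).2 with rfl | rfl | ⟨s', h6, h7⟩
  · exact .inr ⟨.inr (top_one X h3), fun q hq => one_mul (η ⬝ᵥ q) ▸ q2_lev X (top_one X h3) (h5 0 (by decide)) hq⟩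
  · exact .inr ⟨.inr (top_one X h3), fun q hq => one_mul (η ⬝ᵥ q) ▸ q2_lev X (top_one X h3) (h5 7 (by decide)) hq⟩
  rw [show {a | a ∈ lev PE8 lam ∧ (2 : ℤ) ^ e ∣ η ⬝ᵥ a.2} = {a | a ∈ lev PE8 lam ∧ (2 : ℤ) ^ e ∣ a.1 ⬝ᵥ c8 η} from
    Set.ext fun a => and_congr_right fun ha => by rw [ph_dot X fb_E8 sl8 ha.1], h4.ncard_eq] at h0
  refine absurd (h0.trans (Set.ncard_le_ncard (t := {a | a ∈ PE8 ∧ KM.Tor.RS chevE8 8 s' a.1}) (fun a ha => ⟨ha.1,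
    ha.2.imp (fun h i hi => h i (h7 hi)) (Or.imp (fun h i hi => h i (h7 hi)) fun h i hi => h i (h7 hi))⟩)
    (finite_Ph.subset fun _ h => h.1))) (not_le.2 ?_)
  exact (ncard_sep X fun a => KM.Tor.RS chevE8 8 s' a.1).trans_lt (cnt.2.2.2.2 s' h6)

theorem n7 : (lev PE8 (ind K7)).ncard = 126 := (ncard_sep X fun a => a.1 ⬝ᵥ ind K7 = 0).trans cnt.2.1

theorem k126 (h : 126 ≤ (lev PE8 (ind K)).ncard) : K = K7 ∨ K = univ := sets.2.1 K fun i hi => by_contra fun e =>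
  absurd (h.trans (Set.ncard_le_ncard (t := {a | a ∈ PE8 ∧ a.1 i = 0}) (fun _ ha => ⟨ha.1, ((mem_lev_ind X).1 ha).2 i e⟩)
    (finite_Ph.subset fun _ h => h.1))) (not_le.2 ((ncard_sep X fun a => a.1 i = 0).trans_lt (cnt.1 i hi)))

theorem t4_ind (h : T4 (lev PE8 (ind K))) : K = K7 ∨ K = univ := h.elim (fun h => k126 X h.ge) fun h => .inr ((top_ind X fb_E8).1 h)

theorem y48 (h : T4 (lev PE8 (ind K))) (h1 : IY (lev PE8 (ind K)) (2 ^ e) x) :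
    ∃ m : ℤ, Odd m ∧ ∃ q ∈ Qv (lev PE8 (ind K)), Perp (lev PE8 (ind K)) ((4 * m) • x - (2 : ℤ) ^ e • q) := by
  obtain ⟨η, rfl⟩ : ∃ η, c8 η = x := ⟨x ᵥ* G8, funext fun i => (gk.1.co x (mem_univ i)).trans (one_mul _)⟩
  have h2 := iso8 X h1
  refine ⟨1, odd_one, ?_⟩
  rcases t4_ind X h with rfl | rfl
  · have h3 : ∀ j, (2 : ℤ) ^ e ∣ 2 * (c8 η ᵥ* G7) j := fun j => by
      rcases h2 with h2 | ⟨-, -, h2⟩
      · rw [vecMul, dotProduct, mul_sum]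
        refine dvd_sum fun i _ => (em (i ∈ K7)).elim (fun hi => ?_) fun hi => by
          rw [(gk.2.1.1 j i hi).2, mul_zero, mul_zero]; exact dvd_zero _
        rw [← mul_assoc, ← sr_dot i (c8 η)]
        exact (h2 _ (sr_mem_lev X fb_E8 hi)).mul_right _
      · have := h2 _ ⟨gk_mem X fb_E8 gk.2.1 (sr j), sr j, gk_perp X fb_E8 gk.2.1 _⟩
        rwa [co_comm sl8, ← dotProduct_mulVec, sr_dot, ← hr8.2.2.2.2.2.2.1, mulVec_transpose] at this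
    choose c hc using h3
    refine ⟨c8 c, co_ind X fb_E8 fun i hi => ?_, (perp_ind X fb_E8).2 fun i hi => ?_⟩
    · have := hc i
      rw [gk.2.1.zero _ hi, mul_zero] at this
      exact (mul_eq_zero.1 this.symm).resolve_left (pow_ne_zero _ two_ne_zero)
    · have h4 := gk.2.1.co (c8 η) hi
      have h5 : (2 : ℤ) ^ e * c8 c i = 2 * c8 (c8 η ᵥ* G7) i := by simp only [co, mul_sum, ← mul_assoc, ← hc]
      rw [Pi.sub_apply, Pi.smul_apply, Pi.smul_apply, smul_eq_mul, smul_eq_mul, h5, h4]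
      ring
  · have h3 : ∀ i, (2 : ℤ) ^ e ∣ 4 * c8 η i := fun i => by
      rw [← sr_dot i (c8 η)]
      exact h2.elim (fun h2 => mul_assoc (2 : ℤ) 2 _ ▸ (h2 _ (sr_mem_lev X fb_E8 (mem_univ i))).mul_left 2)
        fun h2 => h2.1 _ (sr_mem_lev X fb_E8 (mem_univ i))
    choose c hc using h3
    exact ⟨c, (lev_univ PE8).symm ▸ qv_all X c, (perp_ind X fb_E8).2 fun i _ => by
      rw [Pi.sub_apply, Pi.smul_apply, Pi.smul_apply, smul_eq_mul, smul_eq_mul, mul_one, hc, sub_self]⟩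

theorem h28 (h : T4 (lev PE8 (ind K))) : (lev PE8 (ind K)).Nonempty ∧ HK (lev PE8 (ind K)) 2 := by
  rcases t4_ind X h with rfl | rfl
  · exact ⟨⟨_, sr_mem_lev X fb_E8 (i := 0) (by decide)⟩, fun y => ⟨1, odd_one, _, gk_mem X fb_E8 gk.2.1 y,
      gk_perp X fb_E8 gk.2.1 y⟩⟩
  · exact ⟨⟨_, sr_mem_lev X fb_E8 (mem_univ 0)⟩, fun y => ⟨1, odd_one, _, (lev_univ PE8).symm ▸ qv_all X _,
      fun a _ => by rw [sub_self, dotProduct_zero]⟩⟩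

theorem not_ev (h : ∃ i ∈ K, ¬ Even (c8 a.1 i)) : ¬ Ev (lev PE8 (ind K)) a := fun e =>
  let ⟨i, hi, h⟩ := h
  h (by simpa only [ph_dot X fb_E8 sl8 (sr_mem_Ph X fb_E8 i), sr_dot, ← co_comm sl8] using e _ (sr_mem_lev X fb_E8 hi))

theorem s78 : S7 PE8 (ind K7) := by
  have h1 : (hr chevE8 8, sr 7) ∈ PE8 := hr8.2.1 ▸ ph_cor X fb_E8 sl8 (rt_mem_Ph X (rt_hr X)) ▸ rt_mem_Ph X (rt_hr X)
  refine ⟨_, h1, fun y => ?_, fun a ha => ?_⟩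
  · refine (congrArg (· ∈ Qv (lev PE8 (ind K7))) (funext fun i => ?_)).mp (gk_mem X fb_E8 gk.2.1 y)
    by_cases hi : i = 7
    · subst hi
      simp only [co_vecMul, hr8.2.2.2.2.2.2.2, mul_sub, sum_sub_distrib, mul_ite, mul_zero, sum_ite_eq', mem_univ, if_true,
        Pi.sub_apply, Pi.smul_apply, sr_self, smul_eq_mul, one_mul, dotProduct, mul_comm]
    · rw [gk.2.1.co y (by revert i; decide), Pi.sub_apply, Pi.smul_apply, Pi.smul_apply, smul_eq_mul]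
      exact (sub_eq_self.2 ((congrArg _ (sr_ne hi)).trans (smul_zero _))).symm
  · have h2 : a.1 ⬝ᵥ ind K7 = a.1 7 := by rw [hr8.2.2.2.1, dotProduct_comm, sr_dot]
    have h3 : hr chevE8 8 ⬝ᵥ a.2 = a.1 7 := by rw [ph_dot X fb_E8 sl8 ha, hr8.2.1, dotProduct_comm, sr_dot]
    have h4 : ∀ b ∈ PE8, a.1 = b.1 → a = b := fun b hb e =>
      Prod.ext e ((ph_cor X fb_E8 sl8 ha).trans ((congrArg _ e).trans (ph_cor X fb_E8 sl8 hb).symm))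
    obtain ⟨t, rfl⟩ := id ha
    refine ⟨by rw [hr8.2.2.2.1], fun h5 => ⟨h3.trans (h2.symm.trans h5), not_ev X ((rts8 t).1 (h2.symm.trans h5))⟩, ?_⟩
    rw [h2, h3]
    exact (rts8 t).2.1.imp_right (Or.imp (h4 _ h1) (Or.imp_left (h4 _ (neg_mem_Ph X fb_E8 h1))))

theorem c78 (h : (lev (lev PE8 (ind K)) lam).ncard = 126) :
    Perp (lev PE8 (ind K)) lam ∨ Top (lev PE8 (ind K)) ∧ S7 (lev PE8 (ind K)) lam := by
  have hf : (lev PE8 (ind K)).Finite := finite_Ph.subset (lev_sub _ _)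
  rcases k126 X (h.ge.trans (Set.ncard_le_ncard (lev_sub _ _) hf)) with rfl | rfl
  · exact .inl (not_not.1 (mt lev_ne.2 (not_not.2 (Set.eq_of_subset_of_ncard_le (lev_sub _ _) ((n7 X).trans h.symm).le hf))))
  rw [lev_univ] at h ⊢
  obtain ⟨K, P, Q, h1, h2⟩ := sp X fb_E8 lam
  have h3 : lev PE8 (ind K) = lev PE8 (P *ᵥ lam) := Set.ext fun a => ⟨fun ha => by
    obtain ⟨a', h3, m⟩ := h2.dn a ha
    exact ⟨ha.1, m.dot lam ▸ h3.2⟩, fun ha => by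
    obtain ⟨a', h3, m⟩ := (h1.lev lam).dn a ha
    obtain ⟨b, h4, m'⟩ := h2.up a' h3
    exact h1.mt_right m' m ▸ h4⟩
  rcases k126 X (h2.ncard_eq.symm.trans h).ge with rfl | rfl
  · obtain ⟨θ, k1, k2, k3⟩ := s78 X
    have h4 : ∀ a ∈ PE8, a.1 ⬝ᵥ (P *ᵥ lam) = 0 ↔ a.1 ⬝ᵥ ind K7 = 0 := fun a ha =>
      ⟨fun e => (h3.ge ⟨ha, e⟩).2, fun e => (h3.le ⟨ha, e⟩).2⟩
    exact .inr ⟨top_Ph X fb_E8, h1.s7 ⟨θ, k1, h3 ▸ k2, fun a ha => by rw [h4 a ha, ← h3]; exact k3 a ha⟩⟩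
  · rw [lev_univ] at h3
    exact .inl (h1.perp_iff.1 fun a ha => (h3.le ha).2)

theorem s68 (hE : BoxEx) (h : K6 ⊆ K) (h6 : 6 ∉ K) : S6 (lev PE8 (ind K)) := by
  have h1 : lev (lev PE8 (ind K)) (ind K6) = lev PE8 (ind K6) := Set.ext fun a => ⟨fun ha => ⟨ha.1.1, ha.2⟩, fun ha =>
    ⟨(mem_lev_ind X).2 ⟨ha.1, fun i hi => ((mem_lev_ind X).1 ha).2 i fun e => hi (h e)⟩, ha.2⟩⟩
  have h2 : ∀ a ∈ lev PE8 (ind K), a.1 6 = 0 := fun a ha => ((mem_lev_ind X).1 ha).2 6 h6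
  have h3 : ∀ a ∈ PE8, a.1 6 = 0 → (a.1 7 = 0 → ∃ i ∈ K6, ¬ Even (c8 a.1 i)) ∧ (a.1 7 ≠ 0 ↔ ∀ i, i ≠ 7 → a.1 i = 0) := by
    rintro _ ⟨t, rfl⟩
    exact (rts8 t).2.2
  have h4 : ∀ a ∈ lev PE8 (ind K), a.1 7 ≠ 0 → ∀ b ∈ lev PE8 (ind K), a.1 ⬝ᵥ b.2 = 2 * (a.1 7 * b.1 7) := fun a ha e b hb => by
    rw [dotProduct_comm, KM.Ex.dot_one ((h3 a ha.1 (h2 a ha)).2.1 e), ← sr_dot 7 b.2, ph_dot X fb_E8 sl8 hb.1,
      ← ph_cor X fb_E8 sl8 (sr_mem_Ph X fb_E8 7), hr8.2.2.2.2.2.1, dotProduct_sub, dotProduct_smul, dotProduct_comm,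
      dotProduct_comm b.1, sr_dot, sr_dot, h2 b hb, smul_eq_mul]
    ring
  have h5 : ∀ a ∈ lev PE8 (ind K), Ev (lev PE8 (ind K)) a ↔ a.1 7 ≠ 0 := fun a ha =>
    ⟨fun e e' => not_ev X (((h3 a ha.1 (h2 a ha)).1 e').imp fun _ k => ⟨h k.1, k.2⟩) e,
      fun e b hb => (h4 a ha e b hb).symm ▸ even_two_mul _⟩
  have h7 : ∀ a ∈ lev PE8 (ind K), a.1 ⬝ᵥ ind K6 = a.1 7 := fun a ha => by
    rw [hr8.2.2.2.2.1, dotProduct_add, dotProduct_comm, dotProduct_comm a.1, sr_dot, sr_dot, h2 a ha, zero_add]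
  refine ⟨ind K6, h1.symm ▸ (ncard_sep X fun a => a.1 ⬝ᵥ ind K6 = 0).trans cnt.2.2.1, h1.symm ▸ fun y => ⟨3, by decide, _,
    gk_mem X fb_E8 gk.2.2 y, gk_perp X fb_E8 gk.2.2 y⟩, ?_, fun a ha => ⟨by rw [h5 a ha, h7 a ha, not_not], fun e b hb => ?_⟩⟩
  · refine (congrArg Ex (Set.ext fun a => ?_)).mp (hE.e8 (K \ K6) fun e => (mem_sdiff.1 (e (mem_insert_self 0 _))).2 (by decide))
    have h8 : ∀ i : Fin 8, i ≠ 7 → i ∉ K \ K6 := fun i hi e => (mem_sdiff.1 e).2 ((by decide : ∀ i : Fin 8, i ≠ 7 → i ≠ 6 → i ∈ K6)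
      i hi fun e' => h6 (e' ▸ (mem_sdiff.1 e).1))
    refine (mem_lev_ind X).trans ⟨fun ha => ?_, fun ha => ⟨ha.1.1, fun i hi => ?_⟩⟩
    · have h9 : a ∈ lev PE8 (ind K) := (mem_lev_ind X).2 ⟨ha.1, fun i hi => ha.2 i fun e => hi (mem_sdiff.1 e).1⟩
      exact ⟨h9, (h5 a h9).2 ((h3 a ha.1 (h2 a h9)).2.2 fun i hi => ha.2 i (h8 i hi))⟩
    · have h9 := (h5 a ha.1).1 ha.2
      refine (h3 a ha.1.1 (h2 a ha.1)).2.1 h9 i ?_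
      rintro rfl
      exact h9 (((mem_lev_ind X).1 ha.1).2 7 fun e => hi (mem_sdiff.2 ⟨e, by decide⟩))
  · have h8 : a.1 ⬝ᵥ b.2 = 0 := by rw [h4 a ha ((h5 a ha).1 e) b hb.1, ← h7 b hb.1, hb.2, mul_zero, mul_zero]
    exact ⟨h8, by rw [ph_dot X fb_E8 sl8 ha.1, ← ph_cor X fb_E8 sl8 hb.1.1, h8]⟩

theorem loc8 (hE : BoxEx) (K : Finset (Fin 8)) : Loc (lev PE8 (ind K)) where
  tf := tf_ind X fb_E8 K
  lx _ η h := (iso8 X ((ix_iff X fb_E8 sl8 (lev_sub _ _) _ _).1 h)).imp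
    (fun h a ha => (ph_dot X fb_E8 sl8 ha.1 η).symm ▸ h a ha) And.right
  c6 _ _ := c68 X
  y2 h e x h1 := by
    obtain ⟨η, rfl⟩ : ∃ η, c8 η = x := ⟨x ᵥ* G8, funext fun i => (gk.1.co x (mem_univ i)).trans (one_mul _)⟩
    exact (iso8 X h1).resolve_right fun h2 => h h2.2.1
  y4 h _ _ := y48 X h
  h2 := h28 X
  c7 _ := c78 X
  b1 := (em (K6 ⊆ K)).elim (fun h => .inr ((em (6 ∈ K)).imp (fun h6 => (sets.2.2 K h h6).elim (fun e => e ▸ .inl (n7 X))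
    fun e => .inr ((top_ind X fb_E8).2 e)) (s68 X hE h))) fun h => .inl (hE.e8 K h)

end E8

/-- **`E₈`** -/
theorem famE8_of (hE : BoxEx) {r : ℕ} [Fact r.Prime] {k : Type} [Field k] [CharP k r] [IsAlgClosed k]
    {Mx : Matrix (Fin 8) (Fin 8) ℤ} (X : XF hpE8 r k Mx) : Fam PE8 :=
  fam_of_std X fb_E8 (fun _ _ _ _ h => h.loc) (E8.loc8 X hE)

end Cfsg.Agent.HZ.L.U
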