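import Cfsg.Agent.HZ.L.U.Gen

/-!
# HZ/L/U: the base case and the trichotomy (helper95)
-/

set_option autoImplicit false
set_option linter.unusedSectionVars false
set_option maxHeartbeats 200000

namespace Cfsg.Agent.HZ.L.U

open Cfsg Cfsg.Agent.DL Cfsg.Agent.DL.PP Matrix Cfsg.Agent.KZ.Lie Cfsg.Agent.ODD.Red
open Cfsg.Agent.LV.Blk (IsL)

section Comb

variable {R : Type} [Fintype R] [DecidableEq R] {Ψ : RS R} {c c' d d' : Lb R} {q y : Vec R} {m : ℤ}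

theorem ex_empty : Ex (∅ : RS R) := by
  have : IsEmpty (std Kd.D fun _ : Fin 0 => 0) := ⟨by rintro ⟨_, ⟨i, -⟩ | ⟨i, -⟩ | ⟨i, -⟩⟩ <;> exact i.elim0⟩
  exact ⟨0, .D, fun _ => 0, ⟨Equiv.equivOfIsEmpty _ _, fun a => a.2.elim⟩, .inl (by simp)⟩

theorem four (hq : q ∈ Qv Ψ) (hz : Perp Ψ ((2 * m) • y - q)) (hN : N4 Ψ (d ^ 2)) :
    chr y (d ^ 4) ^ m = chr ((2 * m) • y - q) d ^ 2 := by
  rw [← map_pow, chr_sub, hN q ⟨hq, m • y, by rwa [smul_smul]⟩, inv_one, mul_one, mul_comm, mul_smul, chr_zsmul, ← chr_sq,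
    ← pow_mul]

theorem sq_fix {σ : ℂ ≃+* ℂ} (hσ : Sg σ) (hd : IsL 2 d) (h : chr y d = chr y (gal σ d)) : chr y d ^ 2 = 1 := by
  obtain ⟨a, ha⟩ := isL_chr hd y
  rw [chr_gal] at h
  exact Units.ext (sq_of_fix hσ.2 a _ (congrArg Units.val ha) (congrArg Units.val h).symm)

theorem gal_pow (σ : ℂ ≃+* ℂ) (c : Lb R) (n : ℕ) : gal σ c ^ n = gal σ (c ^ n) := funext fun j => (map_pow _ (c j) n).symm

theorem one_odd {k : ℤ} (h : HK Ψ k) {e e' : Lb R} (he : IsL 2 e) (he' : IsL 2 e')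
    (h1 : ∀ y m q, q ∈ Qv Ψ → Perp Ψ ((k * m) • y - q) → chr y e ^ m = chr y e' ^ m) : e = e' := lb_ext fun y =>
  let ⟨m, hm, q, hq, hz⟩ := h y
  eq_of_zodd (isL_chr he y) (isL_chr he' y) hm (h1 y m q hq hz)

end Comb

variable {p : ℕ} [Fact p.Prime] {k : Type} [Field k] [CharP k p] [IsAlgClosed k] {Y : Type} [Group Y] {N : Type}
  [Fintype N] [DecidableEq N] {ρ : Y →* GL N k} {F : MulAut Y} {G : Subgroup Y} {D : Datum p ρ F G}
  {j : ℕ} {B : Mat D.R} {w : D.W} {c : Lbl D}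

theorem lf (hp : p ≠ 2) (hL : Loc (rts D)) (h : St D j B) (hc : Fx D w c) (hg : Gd c)
    (hn : ¬ Ctl p L (rts D) (D.Wm w * B) c) : LF (rts D) D.Mx (D.Wm w) c := by
  obtain ⟨n, h0, h4⟩ := hg
  rw [mul_comm, pow_mul] at h4
  have hd : IsL 2 (c ^ n) := ⟨2, h4⟩
  have hN := nt_of hp hL h hc hd hn
  intro A hA e x h1 h2
  choose s hs using h1
  have h3 : A *ᵥ D.Mx *ᵥ x - x = (2 : ℤ) ^ e • s := by
    rw [mulVec_mulVec, ← one_mulVec x, mulVec_mulVec, mul_one, ← sub_mulVec]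
    exact funext hs
  have h5 : ∀ v, (D.Wm w * D.Mx - 1) *ᵥ ((4 : ℤ) • x) = (2 : ℤ) ^ e • v → chr v (c ^ n) = 1 → chr v c = 1 := fun v hv e1 =>
    one_of_odd ⟨e, by rw [← chr_nsmul, ← natCast_zsmul, Nat.cast_pow, Nat.cast_ofNat, ← hv, sub_mulVec, one_mulVec, chr_sub, hc,
      mul_inv_cancel]⟩ h0 (by rw [← map_pow, e1])
  have h6 : ((2 : ℤ) ^ e) ≠ 0 := pow_ne_zero e two_ne_zero
  by_cases hT : T4 (rts D)
  · obtain ⟨m, hm, q, hq, hz⟩ := hL.y4 hT e x h2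
    refine ⟨fun a ha => dvd_of_odd hm ⟨a.1 ⬝ᵥ q, ?_⟩, fun v hv => h5 v hv ?_⟩
    · have e1 := hz a ha
      rw [dotProduct_sub, dotProduct_smul, dotProduct_smul, smul_eq_mul, smul_eq_mul] at e1
      linear_combination e1
    have h7 : Perp (rts D) (D.Mx *ᵥ ((4 * m) • x - (2 : ℤ) ^ e • q)) := fun a ha => by
      rw [h.mx, smul_mulVec, dotProduct_smul, nm_perp h.nm' h.fin hz a ha, smul_zero]
    have h8 : A *ᵥ D.Mx *ᵥ q - q ∈ Qv (rts D) :=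
      Submodule.sub_mem _ (qv_W hA (by rw [h.mx, smul_mulVec]; exact Submodule.smul_mem _ _ (nm_qv h.nm' hq))) hq
    have e1 := h7.fix hA
    have e2 := h7.fix (Wm_mem w)
    rw [sub_mulVec, one_mulVec, ← mulVec_mulVec] at hv
    simp only [mulVec_sub, mulVec_smul] at e1 e2 hv h7
    have h9 : (2 : ℤ) ^ e • ((4 * m) • s - (A *ᵥ D.Mx *ᵥ q - q)) =
        ((4 * m) • D.Mx *ᵥ x - (2 : ℤ) ^ e • D.Mx *ᵥ q) - ((4 * m) • x - (2 : ℤ) ^ e • q) := by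
      linear_combination (norm := module) e1 - (4 * m) • h3
    have h10 : Perp (rts D) ((4 * m) • s - (A *ᵥ D.Mx *ᵥ q - q)) := fun a ha => (mul_eq_zero.1 (by
      rw [← smul_eq_mul, ← dotProduct_smul, h9, dotProduct_sub, h7 a ha, hz a ha, sub_zero])).resolve_left h6
    have h11 : m • v = ((4 * m) • s - (A *ᵥ D.Mx *ᵥ q - q)) + (D.Wm w *ᵥ D.Mx *ᵥ q - q) :=
      smul_right_injective _ h6 (by linear_combination (norm := module) e2 - h9 - m • hv)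
    obtain ⟨m', hm', q', hq', hz'⟩ := (hL.h2 hT).2 (m • s)
    have h12 := qv_perp subset_rfl (Submodule.sub_mem _ (Submodule.smul_mem _ 2 hq') (Submodule.smul_mem _ m' h8)) fun a ha => by
      rw [show (2 : ℤ) • q' - m' • (A *ᵥ D.Mx *ᵥ q - q) =
        m' • ((4 * m) • s - (A *ᵥ D.Mx *ᵥ q - q)) - (2 : ℤ) • ((2 * m') • m • s - q') by module, dotProduct_sub, dotProduct_smul,
        dotProduct_smul, h10 a ha, hz' a ha, smul_zero, smul_zero, sub_zero]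
    have h13 := four hq' hz' (hN.elim Tv.n4 And.right)
    rw [h4, map_one, _root_.one_zpow, ← map_pow, chr_sq, show (2 : ℤ) • ((2 * m') • m • s - q') =
      m' • ((4 * m) • s - (A *ᵥ D.Mx *ᵥ q - q)) by linear_combination (norm := module) -h12, chr_zsmul] at h13
    refine one_of_zodd (isL_chr hd v) hm ?_
    rw [← chr_zsmul, h11, chr_add, one_of_zodd (isL_chr hd _) hm' h13.symm, chr_sub, mulVec_mulVec, fx_pow hc n, mul_inv_cancel,
      mul_one]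
  have h7 := hL.y2 hT e x h2
  refine ⟨fun a ha => by rw [show (4 : ℤ) = 2 * 2 from rfl, mul_assoc]; exact (h7 a ha).mul_left 2, fun v hv => h5 v hv ?_⟩
  have h8 : ∀ a ∈ rts D, (2 : ℤ) ^ e ∣ a.1 ⬝ᵥ (2 : ℤ) • D.Mx *ᵥ x := fun a ha => by
    obtain ⟨b, hb, -, e1⟩ := nm_surj h.nm' h.fin ha
    rw [h.mx, smul_mulVec, smul_comm, dotProduct_smul, dotProduct_smul, dotProduct_mulVec, e1]
    exact (h7 b hb).mul_left _
  obtain ⟨u, hu, e1⟩ := sub_qv h8 (Wm_mem w)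
  obtain ⟨u', hu', e2⟩ := sub_qv h8 hA
  rw [sub_mulVec, one_mulVec, ← mulVec_mulVec] at hv
  simp only [mulVec_smul] at e1 e2 hv
  have h9 : v = (2 : ℤ) • (2 : ℤ) • s + (2 : ℤ) • (u - u') := smul_right_injective _ h6 (by
    linear_combination (norm := module) (2 : ℤ) • e1 - (2 : ℤ) • e2 + (4 : ℤ) • h3 - hv)
  rw [h9, chr_add, ← chr_sq, ← chr_sq, ← chr_sq, (hN.resolve_right fun e => hT e.1).qv (Submodule.sub_mem _ hu hu'), ← pow_mul, h4,
    map_one, mul_one]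

theorem tri (hp : p ≠ 2) (h : St D j B) (hF : Fam (rts D)) : Tri D L B where
  hom := by
    rintro c c' ⟨n, hn, e, -⟩ - - ⟨m, hm, h1⟩
    obtain ⟨A, -, e⟩ := (cj_pow e m).symm' subset_rfl
    rw [← pow_mul, ← pow_mul, ← pow_mul, ← pow_mul, show n * (4 * m) = 4 * m * n by ring, pow_mul c, h1, one_pow] at e
    exact ⟨m * n, hm.mul hn, by rw [← mul_assoc]; exact e.eq_one⟩
  bad w c hc hg σ hσ e := .inl (by_contra fun hn => hg (by
    obtain ⟨m, hm, hd⟩ := exists_two (fo_of_fx hc)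
    obtain ⟨n, h1, e, -⟩ := rel_two e e m
    rw [gal_pow, ← pow_mul] at e
    replace hd := isL_pow hd n
    rw [← pow_mul] at hd
    have hN := nt_of hp hF.loc h hc hd hn
    refine ⟨m * n, hm.mul h1, ?_⟩
    rw [mul_comm, pow_mul]
    by_cases hT : T4 (rts D)
    · exact one_odd (hF.loc.h2 hT).2 (isL_pow hd 4) (LV.Blk.isL_one 2) fun y m q hq hz => by
        rw [four hq hz (hN.elim Tv.n4 And.right), sq_fix hσ hd (e.2.1 _ hz), map_one, _root_.one_zpow]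
    obtain ⟨A, hA, e⟩ := ((e.2.2.resolve_left fun e => hT (hF.loc.t4 e.1)).1).symm' subset_rfl
    refine lb_ext fun y => ?_
    rw [show 4 = 2 * 2 from rfl, pow_mul, map_pow, map_one]
    exact sq_fix hσ (isL_pow hd 2) ((tl_of_cor (hN.resolve_right fun e => hT e.1) hA y).symm.trans ((e y).trans (by rw [gal_pow])))))
  good w c hc hg := (em _).imp_right (lf hp hF.loc h hc hg)

variable [Fintype ↥(GF F G)]

theorem b1 (hp : p ≠ 2) (h : St D j B) (hF : Fam (rts D)) : Ex (rts D) ∨ B1 D L B := by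
  refine or_iff_not_imp_left.2 fun hE f χ _ _ hC hn w c w' c' h1 h2 => ?_
  obtain ⟨m, hm, hd⟩ := exists_two h1.fo
  obtain ⟨m', hm', hd'⟩ := exists_two h2.fo
  replace hd := isL_pow hd m'
  replace hd' := isL_pow hd' m
  rw [← pow_mul] at hd
  rw [← pow_mul, mul_comm] at hd'
  have hN := nt_of hp hF.loc h h1.fx hd (hn w c h1)
  have hN' := nt_of hp hF.loc h h2.fx hd' (hn w' c' h2)
  refine ⟨m * m', hm.mul hm', ?_⟩
  by_cases hT : T4 (rts D)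
  · obtain ⟨A, hA, e⟩ := hC ∅ (rts D) ⟨(Set.empty_union _).symm, fun _ h => h.elim, fun _ h => h.elim, h.nm'⟩ (hF.loc.h2 hT).1 ex_empty
      w c w' c' h1 h2
    have e1 : Ep (rts D) (c ^ (m * m')) (c' ^ (m * m')) := fun v hv => by
      rw [map_pow, map_pow, ← e v hv, Perp.fix (fun _ h => h.elim) hA]
    replace hN := hN.elim Tv.n4 And.right
    replace hN' := hN'.elim Tv.n4 And.right
    refine ⟨?_, e1, .inl ⟨⟨0, by rw [lev_zero]; exact ⟨hT, hN⟩⟩, 0, by rw [lev_zero]; exact ⟨hT, hN'⟩⟩⟩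
    rw [one_odd (hF.loc.h2 hT).2 (isL_pow hd 4) (isL_pow hd' 4) fun y m q hq hz => by rw [four hq hz hN, four hq hz hN', e1 _ hz]]
    exact Cj.refl _ _
  obtain ⟨lam, h3, h4, h5, h6⟩ := (hF.loc.b1.resolve_left hE).resolve_left hT
  replace hN := hN.resolve_right fun e => hT e.1
  replace hN' := hN'.resolve_right fun e => hT e.1
  obtain ⟨A, hA, e⟩ := hC {a | a ∈ rts D ∧ Ev (rts D) a} (lev (rts D) lam) ⟨Set.ext fun a => ⟨fun ha => (em _).imp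
      (fun e => ⟨ha, e⟩) fun e => ⟨ha, (h6 a ha).1.2 e⟩, fun e => e.elim And.left And.left⟩, fun a ha => (h6 a ha.1).2 ha.2,
    fun a ha => (h.nm' a ha.1).imp fun b e => ⟨⟨e.1, (ev_iff h.nm' h.fin e.2.2).1 ha.2⟩, e.2⟩,
    fun a ha => (h.nm' a ha.1).imp fun b e => ⟨⟨e.1, (h6 b e.1).1.2 (mt (ev_iff h.nm' h.fin e.2.2).2 ((h6 a ha.1).1.1 ha.2))⟩, e.2⟩⟩
    (Set.nonempty_of_ncard_ne_zero (by rw [h3]; decide)) h5 w c w' c' h1 h2
  replace hA := WW_mono (fun _ h => h.1) hA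
  have e1 : (c ^ (m * m')) ^ 2 = (c' ^ (m * m')) ^ 2 := one_odd h4 (isL_pow hd 2) (isL_pow hd' 2) fun y n q hq hz => by
    have e2 : ∀ d : Lbl D, Tv (rts D) d → chr y d ^ n = chr ((1 * n) • y - q) d := fun d hd => by
      rw [chr_sub, Tv.qv (fun a ha => hd a ha.1) hq, inv_one, mul_one, one_mul, chr_zsmul]
    rw [e2 _ hN, e2 _ hN', ← tl_of_cor hN' hA, map_pow, map_pow, map_pow, map_pow, e _ hz]
  refine ⟨?_, fun v hv => by rw [map_pow, map_pow, ← e v fun a ha => hv a ha.1, hv.fix hA], .inr ⟨e1 ▸ Cj.refl _ _,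
    .inl ⟨lam, h3, fun a ha => hN a ha.1⟩⟩⟩
  rw [show 4 = 2 * 2 from rfl, pow_mul _ 2 2, pow_mul _ 2 2, e1]
  exact Cj.refl _ _

/-- **the family** -/
theorem fm_of (hp : p ≠ 2) (ok : OK p L) : Fm p L where
  ok := ok
  b1 _ _ _ _ h hF := b1 hp h hF
  tri _ _ _ _ h hF := tri hp h hF
  ht _ _ _ _ _ _ _ _ _ _ _ _ _ _ h := h.elim

end Cfsg.Agent.HZ.L.U
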