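import Cfsg.Agent.HZ.L.U.Defs
import Cfsg.Agent.LV.Lab.Std

/-!
# HZ/L/U: generic lemmas, control (helper95)
-/

set_option autoImplicit false
set_option linter.unusedSectionVars false
set_option maxHeartbeats 200000

namespace Cfsg.Agent.HZ.L.U

open Cfsg Cfsg.Agent.DL Cfsg.Agent.DL.PP Matrix Cfsg.Agent.KZ.Lie Cfsg.Agent.ODD.Red
open Cfsg.Agent.LV.Blk (IsL)

theorem one_of_odd {A : Type*} [Monoid A] {x : A} (h : IsL 2 x) {m : ℕ} (hm : Odd m) (e : x ^ m = 1) : x = 1 := by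
  obtain ⟨j, hj⟩ := h
  rw [← pow_one x, ← (Nat.Coprime.pow_left j (Nat.coprime_two_left.2 hm)).gcd_eq_one]
  exact pow_gcd_eq_one.2 ⟨hj, e⟩

theorem one_of_zodd {A : Type*} [Group A] {x : A} (h : IsL 2 x) {m : ℤ} (hm : Odd m) (e : x ^ m = 1) : x = 1 :=
  one_of_odd h (Int.natAbs_odd.2 hm) (by
    rcases Int.natAbs_eq m with h | h
    · rw [← zpow_natCast, ← h, e]
    · rw [← inv_eq_one, ← zpow_natCast, ← _root_.zpow_neg, ← h, e])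

theorem isL_pow {A : Type*} [Monoid A] {x : A} (h : IsL 2 x) (m : ℕ) : IsL 2 (x ^ m) :=
  h.imp fun _ h => by rw [← pow_mul, mul_comm, pow_mul, h, one_pow]

theorem isL_div {A : Type*} [CommGroup A] {x y : A} (h : IsL 2 x) (h' : IsL 2 y) : IsL 2 (x * y⁻¹) := by
  obtain ⟨i, hi⟩ := h
  obtain ⟨j, hj⟩ := h'
  exact ⟨i + j, by rw [mul_pow, inv_pow, pow_add, pow_mul, hi, one_pow, mul_comm (2 ^ i), pow_mul, hj, one_pow, inv_one, mul_one]⟩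

theorem eq_of_zodd {A : Type*} [CommGroup A] {x y : A} (h : IsL 2 x) (h' : IsL 2 y) {m : ℤ} (hm : Odd m)
    (e : x ^ m = y ^ m) : x = y :=
  mul_inv_eq_one.1 (one_of_zodd (isL_div h h') hm (by rw [mul_zpow, e, _root_.inv_zpow, mul_inv_cancel]))

theorem dvd_of_odd {e : ℕ} {m x : ℤ} (hm : Odd m) (h : (2 : ℤ) ^ e ∣ m * x) : (2 : ℤ) ^ e ∣ x :=
  (IsCoprime.pow_left (Int.isCoprime_two_left.2 hm)).dvd_of_dvd_mul_left h

section Comb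

variable {R : Type} [Fintype R] [DecidableEq R] {Ψ Ψ' : RS R} {A : Mat R} {c c' d : Lb R} {q x : Vec R}

/-- isolated labels -/
def Isl (Ψ : RS R) (d : Lb R) : Prop := ∀ lam, (∀ a ∈ Ψ, chr a.2 d = 1 → a.1 ⬝ᵥ lam = 0) → Perp Ψ lam

theorem isL_chr (h : IsL 2 d) (v : Vec R) : IsL 2 (chr v d) := h.imp fun _ h => by rw [← map_pow, h, map_one]

theorem chr_odd (h : IsL 2 d) {m : ℕ} (hm : Odd m) {v : Vec R} (e : chr v (d ^ m) = 1) : chr v d = 1 :=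
  one_of_odd (isL_chr h v) hm (by rw [← map_pow, e])

theorem chr_pow_one {v : Vec R} (e : chr v d = 1) (m : ℕ) : chr v (d ^ m) = 1 := by rw [map_pow, e, one_pow]

theorem chr_sq (v : Vec R) (d : Lb R) : chr v (d ^ 2) = chr ((2 : ℤ) • v) d := by
  rw [chr_zsmul, map_pow, zpow_two, pow_two]

theorem lb_ext (h : ∀ v, chr v c = chr v c') : c = c' := funext fun j => by rw [← chr_single j c, h, chr_single]

theorem exists_two {p : ℕ} (hc : Fo p c) : ∃ m, Odd m ∧ IsL 2 (c ^ m) := by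
  obtain ⟨n, hn, h1⟩ := hc
  obtain ⟨e, m, hm, rfl⟩ := Nat.exists_eq_two_pow_mul_odd (n := n) fun e => hn (e ▸ dvd_zero p)
  exact ⟨m, hm, e, by rw [← pow_mul, mul_comm, h1]⟩

theorem cor_qv {a : Vec R × Vec R} (ha : a ∈ Ψ) : a.2 ∈ Qv Ψ := Submodule.subset_span ⟨a, ha, rfl⟩

theorem Tv.qv (h : Tv Ψ d) (hq : q ∈ Qv Ψ) : chr q d = 1 := by
  induction hq using Submodule.span_induction with
  | mem x hx => obtain ⟨a, ha, rfl⟩ := hx; exact h a ha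
  | zero => exact chr_zero d
  | add x y _ _ hx hy => rw [chr_add, hx, hy, mul_one]
  | smul n x _ hx => rw [chr_zsmul, hx, _root_.one_zpow]

theorem Tv.n4 (h : Tv Ψ d) : N4 Ψ d := fun _ hq => h.qv hq.1

theorem qv_W (hA : A ∈ WW Ψ) (hq : q ∈ Qv Ψ) : A *ᵥ q ∈ Qv Ψ := by
  induction hA using Submonoid.closure_induction generalizing q with
  | mem y hy =>
    obtain ⟨a, ha, rfl⟩ := hy
    rw [rfm_vec]
    exact Submodule.sub_mem _ hq (Submodule.smul_mem _ _ (cor_qv ha))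
  | one => rwa [one_mulVec]
  | mul y z _ _ hy hz => rw [← mulVec_mulVec]; exact hy (hz hq)

theorem sub_qv {N : ℤ} (h : ∀ a ∈ Ψ, N ∣ a.1 ⬝ᵥ x) (hA : A ∈ WW Ψ) : ∃ u ∈ Qv Ψ, A *ᵥ x = x + N • u := by
  induction hA using Submonoid.closure_induction with
  | mem y hy =>
    obtain ⟨a, ha, rfl⟩ := hy
    obtain ⟨d, hd⟩ := h a ha
    exact ⟨-(d • a.2), neg_mem (Submodule.smul_mem _ _ (cor_qv ha)), by rw [rfm_vec, hd, mul_smul, smul_neg, sub_eq_add_neg]⟩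
  | one => exact ⟨0, zero_mem _, by rw [one_mulVec, smul_zero, add_zero]⟩
  | mul y z h1 _ hy hz =>
    obtain ⟨u, h2, hu⟩ := hy
    obtain ⟨v, h3, hv⟩ := hz
    exact ⟨u + y *ᵥ v, add_mem h2 (qv_W h1 h3), by rw [← mulVec_mulVec, hv, mulVec_add, hu, mulVec_smul, smul_add, add_assoc]⟩

theorem nm_pow (h : Nm A Ψ) (m : ℕ) : Nm (A ^ m) Ψ := by
  induction m with
  | zero => exact fun a ha => ⟨a, ha, by rw [pow_zero, one_mulVec], by rw [pow_zero, vecMul_one]⟩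
  | succ m ih =>
    intro a ha
    obtain ⟨b, hb, e1, e2⟩ := ih a ha
    obtain ⟨c, hc, e3, e4⟩ := h b hb
    exact ⟨c, hc, by rw [pow_succ', ← mulVec_mulVec, e1, e3], by rw [pow_succ', ← vecMul_vecMul, e4, e2]⟩

theorem nm_surj (h : Nm A Ψ) (hA : ∃ n, 0 < n ∧ A ^ n = 1) {b : Vec R × Vec R} (hb : b ∈ Ψ) :
    ∃ a ∈ Ψ, A *ᵥ a.2 = b.2 ∧ b.1 ᵥ* A = a.1 := by
  obtain ⟨n, hn, h1⟩ := hA
  obtain ⟨n, rfl⟩ := Nat.exists_eq_succ_of_ne_zero hn.ne'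
  obtain ⟨a, ha, e1, e2⟩ := nm_pow h n b hb
  exact ⟨a, ha, by rw [← e1, mulVec_mulVec, ← pow_succ', h1, one_mulVec], by rw [← e2, vecMul_vecMul, ← pow_succ, h1, vecMul_one]⟩

theorem nm_perp (h : Nm A Ψ) (hA : ∃ n, 0 < n ∧ A ^ n = 1) (hx : Perp Ψ x) : Perp Ψ (A *ᵥ x) := fun b hb => by
  obtain ⟨a, ha, -, e⟩ := nm_surj h hA hb
  rw [dotProduct_mulVec, e, hx a ha]

theorem nm_qv (h : Nm A Ψ) (hq : q ∈ Qv Ψ) : A *ᵥ q ∈ Qv Ψ := by
  induction hq using Submodule.span_induction with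
  | mem x hx =>
    obtain ⟨a, ha, rfl⟩ := hx
    obtain ⟨b, hb, e, -⟩ := h a ha
    exact e ▸ cor_qv hb
  | zero => rw [mulVec_zero]; exact zero_mem _
  | add x y _ _ hx hy => rw [mulVec_add]; exact add_mem hx hy
  | smul n x _ hx => rw [mulVec_smul]; exact Submodule.smul_mem _ _ hx

theorem ev_iff (h : Nm A Ψ) (hA : ∃ n, 0 < n ∧ A ^ n = 1) {a b : Vec R × Vec R} (e : b.1 ᵥ* A = a.1) : Ev Ψ a ↔ Ev Ψ b :=
  ⟨fun h1 c hc => by
    obtain ⟨c', hc', e1, -⟩ := nm_surj h hA hc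
    rw [← e1, dotProduct_mulVec, e]
    exact h1 c' hc', fun h1 c hc => by
    obtain ⟨c', hc', e1, -⟩ := h c hc
    rw [← e, ← dotProduct_mulVec, e1]
    exact h1 c' hc'⟩

/-- the Levi closure of a stable set of roots -/
theorem core (hf : Ψ.Finite) (h : Nm A Ψ) (hA : ∃ n, 0 < n ∧ A ^ n = 1) (h' : Nm A Ψ') (hs : Ψ' ⊆ Ψ)
    (hn : ¬ ∀ lam, Perp Ψ' lam → Perp Ψ lam) : ∃ lam, lev Ψ lam ≠ Ψ ∧ Nm A (lev Ψ lam) ∧ Ψ' ⊆ lev Ψ lam := by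
  let Λ : Submodule ℤ (Vec R) :=
    { carrier := {v | Perp Ψ' v}
      add_mem' := fun h1 h2 a ha => by rw [dotProduct_add, h1 a ha, h2 a ha, add_zero]
      zero_mem' := fun a _ => dotProduct_zero _
      smul_mem' := fun n v h1 a ha => by rw [dotProduct_smul, h1 a ha, smul_zero] }
  obtain ⟨lam, h1, h2⟩ := exists_generic Λ (hf.image Prod.fst)
  refine ⟨lam, lev_ne.2 fun e => hn fun mu hmu a ha => h2 _ ⟨a, ha, rfl⟩ (e a ha) mu hmu, fun a ha => ?_,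
    fun a ha => ⟨hs ha, h1 a ha⟩⟩
  obtain ⟨b, hb, e1, e2⟩ := h a ha.1
  refine ⟨b, ⟨hb, ?_⟩, e1, e2⟩
  obtain ⟨n, hn, h5⟩ := id hA
  obtain ⟨n, rfl⟩ := Nat.exists_eq_succ_of_ne_zero hn.ne'
  have h4 : ∀ m, Perp Ψ' (A ^ m *ᵥ lam) := fun m => by
    induction m with
    | zero => rwa [pow_zero, one_mulVec]
    | succ m ih => rw [pow_succ', ← mulVec_mulVec]; exact nm_perp h' hA ih
  rw [← one_mulVec lam, ← h5, pow_succ', ← mulVec_mulVec, dotProduct_mulVec, e2]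
  exact h2 _ ⟨a, ha.1, rfl⟩ ha.2 _ (h4 n)

theorem cj_pow (h : Cj Ψ c c') (m : ℕ) : Cj Ψ (c ^ m) (c' ^ m) := h.imp fun _ h => ⟨h.1, h.2.pow m⟩

theorem cj_pow' {k : ℕ} (h : Cj Ψ (c ^ k) (c' ^ k)) (m : ℕ) : Cj Ψ ((c ^ m) ^ k) ((c' ^ m) ^ k) := by
  rw [pow_right_comm c, pow_right_comm c']
  exact cj_pow h m

theorem a2_pow (h : A2 Ψ (c ^ 2)) (m : ℕ) : A2 Ψ ((c ^ m) ^ 2) :=
  h.imp fun _ h => ⟨h.1, fun a ha => pow_right_comm c 2 m ▸ chr_pow_one (h.2 a ha) m⟩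

theorem a4_pow (h : A4 Ψ (c ^ 2)) (m : ℕ) : A4 Ψ ((c ^ m) ^ 2) :=
  h.imp fun _ h => ⟨h.1, fun a ha => pow_right_comm c 2 m ▸ chr_pow_one (h.2 a ha) m⟩

theorem a2_odd (hd : IsL 2 d) {m : ℕ} (hm : Odd m) (h : A2 Ψ ((d ^ m) ^ 2)) : A2 Ψ (d ^ 2) :=
  h.imp fun _ h => ⟨h.1, fun a ha => chr_odd (isL_pow hd 2) hm (pow_right_comm d m 2 ▸ h.2 a ha)⟩

theorem a4_odd (hd : IsL 2 d) {m : ℕ} (hm : Odd m) (h : A4 Ψ ((d ^ m) ^ 2)) : A4 Ψ (d ^ 2) :=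
  h.imp fun _ h => ⟨h.1, fun a ha => chr_odd (isL_pow hd 2) hm (pow_right_comm d m 2 ▸ h.2 a ha)⟩

theorem rel0_pow (h : rel0 Ψ c c') (m : ℕ) : rel0 Ψ (c ^ m) (c' ^ m) :=
  ⟨cj_pow' h.1 m, fun v hv => by rw [map_pow, map_pow, h.2.1 v hv], h.2.2.imp (fun h => ⟨a4_pow h.1 m, a4_pow h.2 m⟩)
    fun h => ⟨cj_pow' h.1 m, h.2.imp (fun h => a2_pow h m) fun h => cj_pow h m⟩⟩

/-- related labels at a prescribed odd multiple -/
theorem rel_two {c'' : Lb R} (h : L.rel Ψ c c') (h' : L.rel Ψ c c'') (m : ℕ) : ∃ n, Odd n ∧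
    rel0 Ψ ((c ^ m) ^ n) (c' ^ (m * n)) ∧ rel0 Ψ ((c ^ m) ^ n) (c'' ^ (m * n)) := by
  obtain ⟨n, hn, h⟩ := h
  obtain ⟨n', hn', h'⟩ := h'
  have h1 := rel0_pow h (m * n')
  have h2 := rel0_pow h' (m * n)
  simp only [← pow_mul] at h1 h2 ⊢
  exact ⟨n * n', hn.mul hn', by rwa [show m * (n * n') = n * (m * n') by ring], by rwa [show m * (n * n') = n' * (m * n) by ring]⟩

theorem top_lev {lam : Vec R} (h : Top (lev Ψ lam)) : lev Ψ lam = Ψ := by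
  rw [h lam fun _ ha => ha.2, lev_zero]

theorem Fam.loc (h : Fam Ψ) : Loc Ψ := lev_zero Ψ ▸ h 0

end Comb

variable {p : ℕ} [Fact p.Prime] {k : Type} [Field k] [CharP k p] [IsAlgClosed k] {Y : Type} [Group Y] {N : Type}
  [Fintype N] [DecidableEq N] {ρ : Y →* GL N k} {F : MulAut Y} {G : Subgroup Y} {D : Datum p ρ F G}
  {j : ℕ} {B : Mat D.R} {u w : D.W} {c d : Lbl D} {lam : Vec D.R}

theorem a2_up (h : A2 (lev (rts D) lam) d) : A2 (rts D) d :=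
  let ⟨mu, h⟩ := h
  let ⟨nu, e⟩ := lev_lev lam mu
  ⟨nu, e ▸ h⟩

theorem a4_up (h : A4 (lev (rts D) lam) d) : A4 (rts D) d :=
  let ⟨mu, h⟩ := h
  let ⟨nu, e⟩ := lev_lev lam mu
  ⟨nu, e ▸ h⟩

theorem dot_two {a : Vec D.R × Vec D.R} (ha : a ∈ rts D) : a.1 ⬝ᵥ a.2 = 2 := by
  obtain ⟨b, hb, rfl⟩ := ha
  exact (D.pair_cor hb b).trans (Nodes.Coroot.cpr_self _ _ hb)

/-- the coroot lattice meets the centre trivially -/
theorem qv_perp {Ψ : RS D.R} (h : Ψ ⊆ rts D) {q : Vec D.R} (hq : q ∈ Qv Ψ) (hp : Perp Ψ q) : q = 0 := by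
  let H := Subgroup.closure (D.rf '' {b | D.Rt b ∧ (D.wt b, D.cor b) ∈ Ψ})
  have := Fintype.ofFinite H
  have h1 : ∑ w : H, D.Wm w *ᵥ q = 0 := by
    clear hp
    induction hq using Submodule.span_induction with
    | mem x hx =>
      obtain ⟨a, ha, rfl⟩ := hx
      obtain ⟨b, hb, rfl⟩ := h ha
      have e := Equiv.sum_comp (Equiv.mulRight (⟨D.rf b, Subgroup.subset_closure ⟨b, ⟨hb, ha⟩, rfl⟩⟩ : H))
        fun w : H => D.Wm w *ᵥ D.cor b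
      have e2 : D.Wm (D.rf b) *ᵥ D.cor b = -D.cor b := by
        rw [← rfm_eq hb, rfm_vec, dot_two (rt_mem hb), two_smul]
        abel
      simp only [Equiv.coe_mulRight, Subgroup.coe_mul, D.Wm_mul, ← mulVec_mulVec, e2, mulVec_neg, Finset.sum_neg_distrib] at e
      exact self_eq_neg.1 e.symm
    | zero => simp only [mulVec_zero, Finset.sum_const_zero]
    | add x y _ _ hx hy => simp only [mulVec_add, Finset.sum_add_distrib, hx, hy, add_zero]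
    | smul n x _ hx => simp only [mulVec_smul, ← Finset.smul_sum, hx, smul_zero]
  rw [Finset.sum_congr rfl fun (w : H) _ => hp.fix ((mem_WW_sub h).2 ⟨w.1, w.2, rfl⟩), Finset.sum_const] at h1
  exact (smul_eq_zero.1 h1).resolve_left Fintype.card_ne_zero

theorem Loc.tf' (h : Loc (rts D)) (β : D.I → ℤ) (hβ : ∀ j, ((2 : ℕ) : ℤ) ∣ D.wt β j) (i : D.I) : ((2 : ℕ) : ℤ) ∣ β i := by
  have h1 : ∀ y ∈ Qx (rts D), ∃ β, D.wt β = y := fun y hy => by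
    induction hy using Submodule.span_induction with
    | mem x hx => obtain ⟨_, ⟨b, -, rfl⟩, rfl⟩ := hx; exact ⟨b, rfl⟩
    | zero => exact ⟨0, map_zero _⟩
    | add x y _ _ hx hy => exact ⟨hx.choose + hy.choose, by rw [map_add, hx.choose_spec, hy.choose_spec]⟩
    | smul n x _ hx => exact ⟨n • hx.choose, by rw [map_zsmul, hx.choose_spec]⟩
  obtain ⟨y, hy, e⟩ := h.tf (D.wt β) (by
    rw [D.eq_sum_sr β, map_sum]
    exact sum_mem fun i _ => by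
      rw [map_zsmul]
      exact Submodule.smul_mem _ _ (Submodule.subset_span ⟨_, rt_mem (KZ.Mts.rt D i), rfl⟩)) hβ
  obtain ⟨β', rfl⟩ := h1 y hy
  exact ⟨β' i, congrFun (D.wt_injective (e.trans (map_zsmul _ _ _).symm)) i⟩

theorem rf_mem {a : D.I → ℤ} (ha : D.Rt a) (h : D.wt a ⬝ᵥ lam = 0) : D.rf a ∈ Wl D lam := by
  show D.Wm _ *ᵥ lam = lam
  rw [← rfm_eq ha, rfm_vec, h, zero_smul, sub_zero]

/-- Steinberg for two conjugates -/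
theorem mem_of_cj (hL : Loc (rts D)) {e e' e'' : Lbl D} (he : IsL 2 e) (h1 : Cj (lev (rts D) lam) e e')
    (h2 : Cj (lev (rts D) lam) e e'') (h3 : Rel D u e' e'') {H : Subgroup D.W} (hW : Wl D lam ≤ H)
    (hH : ∀ a, D.Rt a → chr (D.cor a) e = 1 → D.rf a ∈ H) : u ∈ H := by
  obtain ⟨_, h4, h1⟩ := h1
  obtain ⟨_, h5, h2⟩ := h2
  obtain ⟨u1, h7, rfl⟩ := mem_WW_lev.1 h4
  obtain ⟨u2, h8, rfl⟩ := mem_WW_lev.1 h5
  have h6 := LV.Lab.stab_le Nat.prime_two hL.tf' he hH ((Rel.trans h1 h3).trans (Rel.symm h2))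
  rwa [H.mul_mem_cancel_left (inv_mem (hW h8)), H.mul_mem_cancel_right (hW h7)] at h6

theorem fx_pow (hc : Fx D w c) (m : ℕ) : Fx D w (c ^ m) := Tl.pow (A := D.Wm w * D.Mx) hc m

/-- the roots of a rational `2`-label are permuted -/
theorem nm_rc (hp : p ≠ 2) (h : St D j B) (hc : Fx D w d) (hd : IsL 2 d) :
    Nm (D.Wm w * B) {a | a ∈ rts D ∧ chr a.2 d = 1} := fun a ha => by
  obtain ⟨b, hb, e1, e2⟩ := h.nm w a ha.1
  refine ⟨b, ⟨hb, one_of_zodd (isL_chr hd _) (m := (p : ℤ) ^ j) ?_ ?_⟩, e1, e2⟩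
  · exact ((Int.odd_coe_nat p).2 ((Fact.out : p.Prime).odd_of_ne_two hp)).pow
  · rw [← chr_zsmul, ← e1, ← smul_mulVec, ← h.WM, hc, ha.2]

/-- **control through the `k`-th power of the `2`-part** -/
theorem ctl_of (hp : p ≠ 2) (hL : Loc (rts D)) (h : St D j B) (hc : Fx D w c) {m i : ℕ} (hd : IsL 2 (c ^ m))
    (hk : ∀ lam n c', Odd n → rel0 (lev (rts D) lam) ((c ^ m) ^ n) c' → Cj (lev (rts D) lam) (((c ^ m) ^ n) ^ i) (c' ^ i))
    (hI : ¬ Isl (rts D) ((c ^ m) ^ i)) : Ctl p L (rts D) (D.Wm w * B) c := by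
  obtain ⟨lam, h1, h2, h3⟩ := core (finite_rts D) (h.nm w) (h.fin' w) (nm_rc hp h (fx_pow (fx_pow hc m) i) (isL_pow hd i))
    (fun _ h => h.1) fun e => hI fun lam h => e lam fun a ha => h a ha.1 ha.2
  refine ⟨lam, h1, h2, fun mu h4 _ c' c'' A hA e1 e2 e3 _ => ?_⟩
  obtain ⟨u, rfl⟩ := mem_WW.1 hA
  obtain ⟨n, hn, e1, e2⟩ := rel_two e1 e2 m
  exact mem_WW_lev.2 ⟨u, mem_of_cj hL (isL_pow (isL_pow hd n) i) (hk _ _ _ hn e1) (hk _ _ _ hn e2) ((e3.pow _).pow _) le_rfl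
    fun a ha e => rf_mem ha (h4 (h3 ⟨rt_mem ha, chr_odd (isL_pow hd i) hn (pow_right_comm (c ^ m) n i ▸ e)⟩)).2, rfl⟩

/-- **the core `E₇`** -/
theorem ctl_S7 (hp : p ≠ 2) (hL : Loc (rts D)) (h : St D j B) (hc : Fx D w c) {m : ℕ} (hd : IsL 2 (c ^ m))
    (h7 : S7 (rts D) lam) (hN : N4 (lev (rts D) lam) ((c ^ m) ^ 2)) :
    (c ^ m) ^ 4 = 1 ∨ Ctl p L (rts D) (D.Wm w * B) c := by
  obtain ⟨θ, hθ, h1, h2⟩ := h7
  have h0 : Perp (lev (rts D) lam) θ.2 := fun a ha => (h2 a ha.1).1.1 ha.2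
  have h3 : ∀ y, chr y ((c ^ m) ^ 4) = chr θ.2 ((c ^ m) ^ 2) ^ (θ.1 ⬝ᵥ y) := fun y => by
    have e := hN _ ⟨h1 y, y, fun a ha => by rw [sub_sub_cancel, dotProduct_smul, h0 a ha, smul_zero]⟩
    rwa [chr_sub, mul_inv_eq_one, ← chr_sq, ← pow_mul, chr_zsmul] at e
  by_cases ht : chr θ.2 ((c ^ m) ^ 2) = 1
  · exact .inl (lb_ext fun v => by rw [h3, ht, _root_.one_zpow, map_one])
  have h4 : ∀ a ∈ rts D, chr a.2 ((c ^ m) ^ 4) = 1 → a.1 ⬝ᵥ lam = 0 ∨ a = θ ∨ a = -θ := fun a ha e => by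
    rw [h3] at e
    rcases (h2 a ha).2.2 with h | h | h | h | h
    · exact .inl h
    · exact .inr (.inl h)
    · exact .inr (.inr h)
    · exact absurd (by rwa [h, zpow_one] at e) ht
    · exact absurd (by rwa [h, _root_.zpow_neg_one, inv_eq_one] at e) ht
  have h5 : ∀ a ∈ lev (rts D) lam, chr a.2 ((c ^ m) ^ 4) = 1 := fun a ha => by rw [h3, ((h2 a ha.1).2.1 ha.2).1, zpow_zero]
  have h6 := nm_rc hp h (fx_pow (fx_pow hc m) 4) (isL_pow hd 4)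
  have h8 : lev (rts D) lam = lev (rts D) θ.2 := Set.ext fun a => and_congr_right fun ha => (h2 a ha).1
  refine .inr ⟨lam, fun e => ?_, fun a ha => ?_, fun mu h9 h10 c' c'' A hA e1 e2 e3 _ => ?_⟩
  · exact two_ne_zero ((dot_two hθ).symm.trans (h0 θ (e.symm ▸ hθ)))
  · obtain ⟨b, hb, e1, e2⟩ := h6 a ⟨ha.1, h5 a ha⟩
    refine ⟨b, ⟨hb.1, (h4 b hb.1 hb.2).resolve_right fun e => ((h2 a ha.1).2.1 ha.2).2 fun a' ha' => ?_⟩, e1, e2⟩
    obtain ⟨b', hb', e3, -⟩ := h6 a' ⟨ha'.1, h5 a' ha'⟩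
    have e4 : Even (θ.1 ⬝ᵥ b'.2) := by
      rcases h4 b' hb'.1 hb'.2 with h | rfl | rfl
      · rw [((h2 b' hb'.1).2.1 h).1]; exact Even.zero
      · rw [dot_two hθ]; exact even_two
      · rw [Prod.snd_neg, dotProduct_neg, dot_two hθ]; exact even_two.neg
    rw [← e2, ← dotProduct_mulVec, e3]
    rcases e with rfl | rfl
    · exact e4
    · rw [Prod.fst_neg, neg_dotProduct]; exact e4.neg
  have h11 : lev (rts D) mu = lev (rts D) lam := by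
    have e := qv_perp (lev_sub _ _) (h1 mu) fun a ha => by
      rw [dotProduct_sub, dotProduct_smul, dotProduct_smul, (h9 ha).2, h0 a ha, smul_zero, smul_zero, sub_zero]
    rw [sub_eq_zero] at e
    refine (Set.Subset.antisymm h9 fun a ha => ⟨ha.1, (h2 a ha.1).1.2 ?_⟩).symm
    have e5 := congrArg (a.1 ⬝ᵥ ·) e
    simp only [dotProduct_smul, ha.2, smul_eq_mul, mul_zero] at e5
    refine (mul_eq_zero.1 e5.symm).resolve_left fun e6 => lev_ne.1 h10 fun b _ => ?_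
    rw [e6, zero_smul, smul_eq_zero_iff_right two_ne_zero] at e
    rw [e, dotProduct_zero]
  rw [h11] at e1 e2 ⊢
  obtain ⟨u, rfl⟩ := mem_WW.1 hA
  obtain ⟨n, hn, e1, e2⟩ := rel_two e1 e2 m
  let H : Subgroup D.W :=
    { carrier := {u | D.Wm u *ᵥ θ.2 = θ.2 ∨ D.Wm u *ᵥ θ.2 = -θ.2}
      one_mem' := .inl (by rw [D.Wm_one, one_mulVec])
      mul_mem' := by
        rintro x y (hx | hx) (hy | hy) <;> simp only [Set.mem_ofPred_eq, D.Wm_mul, ← mulVec_mulVec, hx, hy, mulVec_neg, neg_neg,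
          true_or, or_true]
      inv_mem' := fun {x} hx => by
        have e : D.Wm x⁻¹ *ᵥ D.Wm x *ᵥ θ.2 = θ.2 := by rw [mulVec_mulVec, ← D.Wm_mul, inv_mul_cancel, D.Wm_one, one_mulVec]
        exact hx.imp (fun h => by rwa [h] at e) fun h => by rwa [h, mulVec_neg, neg_eq_iff_eq_neg] at e }
  have h12 : u ∈ H := mem_of_cj hL (isL_pow (isL_pow hd n) 4) e1.1 e2.1 ((e3.pow _).pow _)
    (fun x hx => .inl (h0.fix (mem_WW_lev.2 ⟨x, hx, rfl⟩))) fun a ha e => by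
      show D.Wm _ *ᵥ θ.2 = θ.2 ∨ D.Wm _ *ᵥ θ.2 = -θ.2
      rw [← rfm_eq ha, rfm_vec]
      rcases h4 _ (rt_mem ha) (chr_odd (isL_pow hd 4) hn (pow_right_comm (c ^ m) n 4 ▸ e)) with h | h | h
      · exact .inl (by rw [h0 _ ⟨rt_mem ha, h⟩, zero_smul, sub_zero])
      · exact .inr (by rw [h, dot_two hθ, two_smul]; abel)
      · exact .inr (by rw [h, Prod.fst_neg, Prod.snd_neg, neg_dotProduct, dot_two hθ, neg_smul_neg, two_smul]; abel)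
  rcases h12 with h12 | h12
  · exact h8 ▸ mem_WW_lev.2 ⟨u, h12, rfl⟩
  refine absurd (chr_odd (isL_pow hd 2) hn ?_) ht
  have e4 := e3.pow (m * n) θ.2
  rw [h12, chr_neg, ← e1.2.1 _ h0, ← e2.2.1 _ h0, inv_eq_iff_mul_eq_one] at e4
  rw [pow_right_comm, map_pow, pow_two, e4]

theorem Loc.lx' (hL : Loc (rts D)) (hd : IsL 2 d) (hI : Isl (rts D) d) :
    Tv (rts D) (d ^ 2) ∨ T4 (rts D) ∧ N4 (rts D) (d ^ 2) := by
  obtain ⟨e, η, ω, hω, h⟩ := LV.Lab.exists_log Nat.prime_two hd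
  have h1 : ∀ y, chr y d = 1 ↔ (2 : ℤ) ^ e ∣ η ⬝ᵥ y := fun y => by
    rw [h, hω.zpow_eq_one_iff_dvd, Nat.cast_pow, Nat.cast_ofNat]
  have h2 : ∀ y, (2 : ℤ) ^ e ∣ 2 * (η ⬝ᵥ y) → chr y (d ^ 2) = 1 := fun y h => by
    rwa [chr_sq, h1, dotProduct_smul]
  exact (hL.lx e η fun lam h => hI lam fun a ha e => h a ha ((h1 _).1 e)).imp (fun h a ha => h2 _ (h a ha))
    fun h => ⟨h.1, fun q hq => h2 _ (h.2 q hq)⟩

theorem Loc.c6' (hL : Loc (rts D)) (hd : IsL 2 d) (hI : Isl (rts D) d) (hA : A2 (rts D) d) :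
    Tv (rts D) d ∨ T4 (rts D) ∧ N4 (rts D) d := by
  obtain ⟨e, η, ω, hω, h⟩ := LV.Lab.exists_log Nat.prime_two hd
  have h1 : ∀ y, chr y d = 1 ↔ (2 : ℤ) ^ e ∣ η ⬝ᵥ y := fun y => by
    rw [h, hω.zpow_eq_one_iff_dvd, Nat.cast_pow, Nat.cast_ofNat]
  obtain ⟨lam, h2, h3⟩ := hA
  exact (hL.c6 e η (fun lam h => hI lam fun a ha e => h a ha ((h1 _).1 e)) (h2 ▸ Set.ncard_le_ncard
    (fun a ha => ⟨ha.1, (h1 _).1 (h3 a ha)⟩) ((finite_rts D).subset fun _ h => h.1))).imp (fun h a ha => (h1 _).2 (h a ha))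
    fun h => ⟨h.1, fun q hq => (h1 _).2 (h.2 q hq)⟩

theorem Loc.t4 (hL : Loc (rts D)) (h : A4 (rts D) d) : T4 (rts D) := by
  obtain ⟨lam, h | h, -⟩ := h
  · exact (hL.c7 lam h).elim (fun e => .inl (not_not.1 (mt lev_ne.1 (not_not.2 e)) ▸ h)) fun e => .inr e.1
  · exact .inr (top_lev h ▸ h)

/-- **labels without a core** -/
theorem nt_of (hp : p ≠ 2) (hL : Loc (rts D)) (h : St D j B) (hc : Fx D w c) {m : ℕ} (hd : IsL 2 (c ^ m))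
    (hn : ¬ Ctl p L (rts D) (D.Wm w * B) c) :
    Tv (rts D) ((c ^ m) ^ 2) ∨ T4 (rts D) ∧ N4 (rts D) ((c ^ m) ^ 2) := by
  by_cases h4 : A4 (rts D) ((c ^ m) ^ 2)
  · refine .inr ⟨hL.t4 h4, ?_⟩
    obtain ⟨lam, h1 | h1, h2⟩ := h4
    · rcases hL.c7 lam h1 with e | ⟨e1, e2⟩
      · exact not_not.1 (mt lev_ne.1 (not_not.2 e)) ▸ h2
      · rintro q ⟨-, y, hy⟩
        rw [← sub_eq_zero.1 (e1 _ hy), ← chr_sq, ← pow_mul, (ctl_S7 hp hL h hc hd e2 h2).resolve_right hn, map_one]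
    · exact top_lev h1 ▸ h2
  have h1 := fun lam n c' hn (e : rel0 (lev (rts D) lam) ((c ^ m) ^ n) c') =>
    e.2.2.resolve_left fun e => h4 (a4_up (a4_odd hd hn e.1))
  by_cases h2 : A2 (rts D) ((c ^ m) ^ 2)
  · exact hL.c6' (isL_pow hd 2) (by_contra fun e => hn (ctl_of hp hL h hc hd (fun lam n c' hn e => (h1 lam n c' hn e).1) e)) h2
  · refine hL.lx' hd (by_contra fun e => hn (ctl_of (i := 1) hp hL h hc hd (fun lam n c' hn e => ?_) (by rwa [pow_one])))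
    rw [pow_one, pow_one]
    exact (h1 lam n c' hn e).2.resolve_left fun e => h2 (a2_up (a2_odd hd hn e))

end Cfsg.Agent.HZ.L.U
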