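import Cfsg.Agent.HZ.L.U.Isg
import Cfsg.Agent.HZ.L.U.Fm

/-!
# HZ/L/U: the label system satisfies the axioms (helper57)

* `A2.tl`, `A4.tl`, `A2.mono`, `A4.mono`, `rel0.pow`, `rel0.symm`, `rel0.trans`, `rel0.mono`;  `ok : OK p L`, `fm : Fm p L`.
-/

set_option autoImplicit false
set_option linter.unusedSectionVars false

namespace Cfsg.Agent.HZ.L.U

open Cfsg Cfsg.Agent.DL Matrix

section Comb

variable {R R' : Type} [Fintype R] [DecidableEq R] [Fintype R'] [DecidableEq R'] {P : Matrix R R' ℤ} {Q : Matrix R' R ℤ} {z : ℤ}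
  {Ψ' : RS R'} {Ψ : RS R} {c c' d : Lb R} {d' : Lb R'}

theorem Isg.tv (h : Isg P Q z Ψ' Ψ) (e : ∀ v, chr (P *ᵥ v) d = chr v d') (t : Tv Ψ' d') : Tv Ψ d := fun a ha => by
  obtain ⟨a', h1, m⟩ := h.dn a ha
  rw [← m.2, e, t a' h1]

theorem Isg.n4 (h : Isg P Q z Ψ' Ψ) (e : ∀ v, chr (P *ᵥ v) d = chr v d') (t : N4 Ψ' d') : N4 Ψ d := fun q hq => by
  obtain ⟨q', h1, rfl⟩ := h.q2_dn hq
  rw [e, t q' h1]

theorem Isg.a2 (h : Isg P Q z Ψ' Ψ) (e : ∀ v, chr (P *ᵥ v) d = chr v d') (t : A2 Ψ' d') : A2 Ψ d :=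
  t.elim fun lam t => ⟨P *ᵥ lam, (h.lev lam).ncard_eq.symm.trans t.1, (h.lev lam).tv e t.2⟩

theorem Isg.a4 (h : Isg P Q z Ψ' Ψ) (e : ∀ v, chr (P *ᵥ v) d = chr v d') (t : A4 Ψ' d') : A4 Ψ d :=
  t.elim fun lam t => ⟨P *ᵥ lam, (h.lev lam).t4_iff.1 t.1, (h.lev lam).n4 e t.2⟩

theorem ep_of_cj (h : Cj Ψ c c') : Ep Ψ c c' := fun v hv => by
  obtain ⟨A, h1, h2⟩ := h
  rw [← h2, hv.fix h1]

theorem Ep.pow (h : Ep Ψ c c') (m : ℕ) : Ep Ψ (c ^ m) (c' ^ m) := fun v hv => by rw [map_pow, map_pow, h v hv]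

theorem Tv.pow (h : Tv Ψ d) (m : ℕ) : Tv Ψ (d ^ m) := fun a ha => by rw [map_pow, h a ha, one_pow]

theorem N4.pow (h : N4 Ψ d) (m : ℕ) : N4 Ψ (d ^ m) := fun a ha => by rw [map_pow, h a ha, one_pow]

theorem A2.pow (h : A2 Ψ d) (m : ℕ) : A2 Ψ (d ^ m) := h.imp fun _ h => ⟨h.1, h.2.pow m⟩

theorem A4.pow (h : A4 Ψ d) (m : ℕ) : A4 Ψ (d ^ m) := h.imp fun _ h => ⟨h.1, h.2.pow m⟩

theorem rel0.pow (h : rel0 Ψ c c') (m : ℕ) : rel0 Ψ (c ^ m) (c' ^ m) := by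
  unfold rel0
  rw [pow_right_comm c m, pow_right_comm c' m, pow_right_comm c m, pow_right_comm c' m]
  exact ⟨cj_pow h.1 m, h.2.1.pow m, h.2.2.imp (fun h => ⟨h.1.pow m, h.2.pow m⟩)
    fun h => ⟨cj_pow h.1 m, h.2.imp (A2.pow · m) (cj_pow · m)⟩⟩

theorem rel0_of_cj (h : Cj Ψ c c') : rel0 Ψ c c' := ⟨cj_pow h 4, ep_of_cj h, .inr ⟨cj_pow h 2, .inr h⟩⟩

theorem rel_of_rel0 (h : rel0 Ψ c c') : L.rel Ψ c c' := ⟨1, odd_one, h.pow 1⟩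

end Comb

variable {p : ℕ} [Fact p.Prime] {k : Type} [Field k] [CharP k p] [IsAlgClosed k] {Y : Type} [Group Y] {N : Type}
  [Fintype N] [DecidableEq N] {ρ : Y →* GL N k} {F : MulAut Y} {G : Subgroup Y} {D : Datum p ρ F G} {u : D.W}
  {c c' c'' d d' : Lb D.R} {lam : Vec D.R}

theorem A2.tl (e : Tl (D.Wm u) d d') (h : A2 (rts D) d) : A2 (rts D) d' := (isg_W D u).a2 e h

theorem A4.tl (e : Tl (D.Wm u) d d') (h : A4 (rts D) d) : A4 (rts D) d' := (isg_W D u).a4 e h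

theorem A2.cj (e : Cj (rts D) d d') (h : A2 (rts D) d) : A2 (rts D) d' := (cj_iff.1 e).elim fun _ e => h.tl e

theorem A4.cj (e : Cj (rts D) d d') (h : A4 (rts D) d) : A4 (rts D) d' := (cj_iff.1 e).elim fun _ e => h.tl e

theorem A2.mono (h : A2 (lev (rts D) lam) d) : A2 (rts D) d := by
  obtain ⟨mu, h⟩ := h
  obtain ⟨nu, e⟩ := lev_lev lam mu
  exact ⟨nu, e ▸ h⟩

theorem A4.mono (h : A4 (lev (rts D) lam) d) : A4 (rts D) d := by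
  obtain ⟨mu, h⟩ := h
  obtain ⟨nu, e⟩ := lev_lev lam mu
  exact ⟨nu, e ▸ h⟩

theorem rel0.symm (h : rel0 (rts D) c c') : rel0 (rts D) c' c :=
  ⟨h.1.symm' subset_rfl, fun v hv => (h.2.1 v hv).symm, h.2.2.imp And.symm
    fun h => ⟨h.1.symm' subset_rfl, h.2.imp (A2.cj h.1) (Cj.symm' subset_rfl)⟩⟩

theorem rel0.trans (h : rel0 (rts D) c c') (h' : rel0 (rts D) c' c'') : rel0 (rts D) c c'' := by
  refine ⟨h.1.trans h'.1, fun v hv => (h.2.1 v hv).trans (h'.2.1 v hv), ?_⟩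
  rcases h.2.2 with h1 | h1 <;> rcases h'.2.2 with h2 | h2
  · exact .inl ⟨h1.1, h2.2⟩
  · exact .inl ⟨h1.1, h1.2.cj h2.1⟩
  · exact .inl ⟨h2.1.cj (h1.1.symm' subset_rfl), h2.2⟩
  · exact .inr ⟨h1.1.trans h2.1, h1.2.elim .inl fun h3 => h2.2.imp (A2.cj (h1.1.symm' subset_rfl)) h3.trans⟩

theorem rel0.mono (h : rel0 (lev (rts D) lam) c c') : rel0 (rts D) c c' :=
  ⟨h.1.mono (lev_sub _ _), fun v hv => h.2.1 v fun a ha => hv a ha.1, h.2.2.imp (And.imp A4.mono A4.mono)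
    (And.imp (Cj.mono · (lev_sub _ _)) (Or.imp A2.mono (Cj.mono · (lev_sub _ _))))⟩

theorem Fam.lev (h : Fam (rts D)) (lam : Vec D.R) : Fam (lev (rts D) lam) := fun mu =>
  (lev_lev lam mu).elim fun nu e => e ▸ h nu

/-- **the axioms** -/
theorem ok : OK p L := fun _ _ _ _ _ hF =>
  { symm := fun _ _ h => h.imp fun _ h => ⟨h.1, h.2.symm⟩
    trans := fun c c' c'' ⟨n, h1, h2⟩ ⟨m, h3, h4⟩ => ⟨n * m, h1.mul h3, by
      have h5 := h4.pow n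
      rw [pow_right_comm c', pow_right_comm c''] at h5
      rw [pow_mul, pow_mul]
      exact (h2.pow m).trans h5⟩
    cj := fun v _ _ h => rel_of_rel0 (rel0_of_cj (cj_iff.2 ⟨v, h⟩))
    adm := fun _ lam _ => Fam.lev hF lam
    mon := fun _ _ _ _ _ h => h.imp fun _ h => ⟨h.1, h.2.mono⟩ }

/-- **the family** -/
theorem fm (hp : p ≠ 2) : Fm p L := fm_of hp ok

end Cfsg.Agent.HZ.L.U
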