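import Cfsg.Agent.HZ.L.U.Kac
import Cfsg.Agent.HZ.L.U.Isg

/-!
# HZ/L/U: the lattice facts for `G₂`, `F₄`, `D₄`, `E₆` (helper38)
-/

set_option autoImplicit false
set_option linter.unusedSectionVars false

namespace Cfsg.Agent.HZ.L.U

open Cfsg Cfsg.Lie Cfsg.Agent.DL Cfsg.Agent.Nodes.Reps Matrix Finset Cfsg.Agent.KZ.DatX Cfsg.Agent.Nodes.RGDChev
  Cfsg.Agent.ChevalleyStructure.NPerm Cfsg.Agent.ChevalleyStructure.CoxeterGeom
  Cfsg.Agent.ChevalleyStructure.CoxeterGeomTypes Cfsg.Agent.Tits.Roots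
open Cfsg.Agent.H931.KC (hr)
open Cfsg.Agent.H92.NE (bl)

namespace Sm

theorem top_zero {R : Type} [Fintype R] [DecidableEq R] {Ψ : RS R} {lam : Vec R} (h : Top (lev Ψ lam)) : lam = 0 :=
  h lam fun _ ha => ha.2

/-- the root `t` has the coordinates of the coroot of the root `s` -/
def Rl (C : ChevalleyDatum) (n : ℕ) (B : Fin n → Fin n → ℤ) (U T : Mat (Fin n)) (s t : ℕ) : Prop :=
  Nodes.RGDChev.vec C n s ᵥ* T = bl B (Nodes.RGDChev.vec C n s) (Nodes.RGDChev.vec C n s) • Nodes.RGDChev.vec C n t ∧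
    cv B (Nodes.RGDChev.vec C n s) = Nodes.RGDChev.vec C n t ᵥ* U ∧ bl B (Nodes.RGDChev.vec C n s) (Nodes.RGDChev.vec C n s) ≠ 0

instance Rl.dec (C : ChevalleyDatum) (n : ℕ) (B : Fin n → Fin n → ℤ) (U T : Mat (Fin n)) (s t : ℕ) :
    Decidable (Rl C n B U T s t) := by
  unfold Rl; infer_instance

/-- the data of a small type -/
structure Dt (C : ChevalleyDatum) (n : ℕ) (B : Fin n → Fin n → ℤ) (G U T T' : Mat (Fin n)) (z c : ℤ) (j₀ : Fin n) : Prop where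
  fb : FB C n B
  nr : C.nroots ≤ 72
  hz : z ∣ 6
  hG : G * of (cartanOf C n) = z • (1 : Mat (Fin n))
  h4 : ∀ j, (2 : ℤ) ∣ hr C n j → hr C n j = 2 ∨ j = j₀ ∧ hr C n j = 4 ∧ z = 1
  hc : c ≠ 0
  hT : T * T' = c • (1 : Mat (Fin n))
  up : ∀ s : Fin C.nroots, ∃ t : Fin C.nroots, Rl C n B U T s t
  dn : ∀ t : Fin C.nroots, ∃ s : Fin C.nroots, Rl C n B U T s t

variable {C : ChevalleyDatum} {n : ℕ} {M : CoxeterMatrix (Fin n)} {hp : IsType C n M} {r : ℕ} [Fact r.Prime] {k : Type}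
  [Field k] [CharP k r] [IsAlgClosed k] {Mx : Matrix (Fin n) (Fin n) ℤ} (X : XF hp r k Mx) {B : Fin n → Fin n → ℤ}
  {G U T T' : Mat (Fin n)} {z c : ℤ} {j₀ : Fin n} {s t : ℕ} {lam x η : Vec (Fin n)} {e : ℕ}

theorem Rl.dot (h : Rl C n B U T s t) (μ : Vec (Fin n)) :
    (pr C n B s).1 ⬝ᵥ (T *ᵥ μ) = 0 ↔ (pr C n B t).1 ⬝ᵥ μ = 0 := by
  rw [pr, pr, dotProduct_mulVec, h.1, smul_dotProduct, smul_eq_mul, mul_eq_zero, or_iff_right h.2.2]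

theorem Rl.eta (h : Rl C n B U T s t) (η : Vec (Fin n)) : η ⬝ᵥ (pr C n B s).2 = (pr C n B t).1 ⬝ᵥ (U *ᵥ η) := by
  rw [pr, pr, dotProduct_mulVec, ← h.2.1, dotProduct_comm]

theorem Dt.dot (H : Dt C n B G U T T' z c j₀) (h : Rl C n B U T s t) (lam : Vec (Fin n)) :
    (pr C n B t).1 ⬝ᵥ (T' *ᵥ lam) = 0 ↔ (pr C n B s).1 ⬝ᵥ lam = 0 := by
  rw [← h.dot, mulVec_mulVec, H.hT, smul_mulVec, one_mulVec, dotProduct_smul, smul_eq_mul, mul_eq_zero, or_iff_right H.hc]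

theorem Dt.card (H : Dt C n B G U T T' z c j₀) {Ψ : RS (Fin n)} (h : Ψ ⊆ Ph C n B) : Ψ.ncard ≤ 72 := by
  refine (Set.ncard_le_ncard h finite_Ph).trans (le_trans ?_ H.nr)
  rw [show Ph C n B = (fun s : Fin C.nroots => pr C n B s) '' ↑(univ : Finset (Fin C.nroots)) from
    Set.ext fun a => ⟨fun ⟨s, e⟩ => ⟨s, mem_coe.2 (mem_univ _), e.symm⟩, fun ⟨s, _, e⟩ => ⟨s, e.symm⟩⟩]
  exact (Set.ncard_image_le (finite_toSet _)).trans (by rw [Set.ncard_coe_finset, card_univ, Fintype.card_fin])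

theorem Dt.t4 (H : Dt C n B G U T T' z c j₀) (h : T4 (lev (Ph C n B) lam)) : lam = 0 :=
  h.elim (fun e => absurd (H.card (lev_sub _ lam)) (by rw [e]; decide)) top_zero

/-- the dual side -/
theorem Dt.iy (H : Dt C n B G U T T' z c j₀) {N : ℤ} (h : IX (lev (Ph C n B) lam) N η) :
    IY (lev (Ph C n B) (T' *ᵥ lam)) N (U *ᵥ η) := fun μ hμ => by
  have h1 := h (T *ᵥ μ) fun a ⟨⟨s, e⟩, h2⟩ h3 => by
    subst e
    obtain ⟨t, ht⟩ := H.up s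
    exact (ht.dot μ).2 (hμ _ ⟨⟨t, rfl⟩, (H.dot ht lam).2 h2⟩ (ht.eta η ▸ h3))
  rintro a ⟨⟨t, rfl⟩, h2⟩
  obtain ⟨s, hs⟩ := H.dn t
  exact (hs.dot μ).1 (h1 _ ⟨⟨s, rfl⟩, (H.dot hs lam).1 h2⟩)

include X

theorem Dt.qv (H : Dt C n B G U T T' z c j₀) (y : Vec (Fin n)) : z • y ∈ Qv (Ph C n B) := by
  rw [show z • y = ∑ j, (y ᵥ* G) j • cartanOf C n j by
    rw [← vecMul_one (z • y), smul_vecMul, ← vecMul_smul, ← H.hG, ← vecMul_vecMul, vecMul_eq_sum]; rfl]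
  exact Submodule.sum_mem _ fun j _ => Submodule.smul_mem _ _ (Submodule.subset_span ⟨_, sr_mem_Ph X H.fb j, rfl⟩)

theorem Dt.qv6 (H : Dt C n B G U T T' z c j₀) (y : Vec (Fin n)) : (6 : ℤ) • y ∈ Qv (Ph C n B) := by
  obtain ⟨m, hm⟩ := H.hz
  rw [hm, mul_smul]
  exact H.qv X _

/-- the level of an isolated cocharacter -/
theorem Dt.ky2 (H : Dt C n B G U T T' z c j₀) (h : IY (lev (Ph C n B) lam) (2 ^ e) x) :
    (∀ a ∈ lev (Ph C n B) lam, (2 : ℤ) ^ e ∣ 2 * (a.1 ⬝ᵥ x)) ∨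
      z = 1 ∧ lam = 0 ∧ ∀ a ∈ lev (Ph C n B) lam, (2 : ℤ) ^ e ∣ 4 * (a.1 ⬝ᵥ x) := by
  rcases ky X H.fb lam x e h with h1 | ⟨s, P, Q, ⟨i, hi⟩, h2, h3, -, h4⟩
  · exact .inl fun a ha => (h1 a ha).mul_left _
  by_cases h5 : ∃ j ∈ s, hr C n j = 2
  · obtain ⟨j, hj, e⟩ := h5
    exact .inl fun a ha => e ▸ h4 j hj a ha
  have h6 : ∀ j ∈ s, j = j₀ ∧ hr C n j = 4 ∧ z = 1 := fun j hj => (H.h4 j (h2 j hj)).resolve_left fun e => h5 ⟨j, hj, e⟩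
  refine .inr ⟨(h6 i hi).2.2, top_zero (h3.top_iff.2 fun v hv => top_Ph X H.fb v fun a ha => hv a ⟨ha, fun j hj l hl => ?_⟩),
    fun a ha => (h6 i hi).2.1 ▸ h4 i hi a ha⟩
  rw [(h6 j hj).1, (h6 l hl).1]

theorem Dt.div (H : Dt C n B G U T T' z c j₀) {m N : ℤ} (h : ∀ a ∈ lev (Ph C n B) 0, N ∣ m * (a.1 ⬝ᵥ x)) :
    ∃ y, m • x = N • y := by
  have h1 : ∀ i, N ∣ m * x i := fun i => KM.Ex.sr_dot i x ▸ h _ ⟨sr_mem_Ph X H.fb i, dotProduct_zero _⟩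
  choose y hy using h1
  exact ⟨y, funext hy⟩

/-- **the lattice facts** -/
theorem Dt.loc (H : Dt C n B G U T T' z c j₀) (K : Finset (Fin n)) (hE : K ≠ univ → Ex (lev (Ph C n B) (ind K))) :
    Loc (lev (Ph C n B) (ind K)) where
  tf := tf_ind X H.fb K
  lx e η h := by
    rcases H.ky2 X (H.iy h) with h1 | ⟨hz, h1, h2⟩
    · refine .inl fun a ⟨⟨s, e⟩, h3⟩ => ?_
      subst e
      obtain ⟨t, ht⟩ := H.up s
      exact (ht.eta η).symm ▸ h1 _ ⟨⟨t, rfl⟩, (H.dot ht _).2 h3⟩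
    have h3 : ind K = 0 := by
      have h4 := congrArg (T *ᵥ ·) h1
      simp only [mulVec_mulVec, H.hT, smul_mulVec, one_mulVec, mulVec_zero] at h4
      exact (smul_eq_zero.1 h4).resolve_left H.hc
    rw [h1, lev_zero] at h2
    rw [h3, lev_zero]
    refine .inr ⟨.inr (top_Ph X H.fb), fun q ⟨_, y, hy⟩ => ?_⟩
    have h5 : y ∈ Qv (Ph C n B) := by simpa only [hz, one_smul] using H.qv X y
    rw [← sub_eq_zero.1 (top_Ph X H.fb _ hy), dotProduct_smul, smul_eq_mul, ← mul_assoc]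
    clear hy
    induction h5 using Submodule.span_induction with
    | mem _ hy =>
      obtain ⟨a, ⟨s, rfl⟩, rfl⟩ := hy
      obtain ⟨t, ht⟩ := H.up s
      exact (ht.eta η).symm ▸ h2 _ ⟨t, rfl⟩
    | zero => rw [dotProduct_zero, mul_zero]; exact dvd_zero _
    | add _ _ _ _ k1 k2 => rw [dotProduct_add, mul_add]; exact k1.add k2
    | smul m _ _ k1 => rw [dotProduct_smul, smul_eq_mul, mul_left_comm]; exact k1.mul_left _
  c6 e η _ h := .inl fun a ha => by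
    have h1 := Set.eq_of_subset_of_ncard_le (s := {a | a ∈ lev (Ph C n B) (ind K) ∧ (2 : ℤ) ^ e ∣ η ⬝ᵥ a.2})
      (fun _ h => h.1) ((H.card (lev_sub _ _)).trans h) (finite_Ph.subset (lev_sub _ _))
    exact (h1.ge ha).2
  y2 h e x hx := (H.ky2 X hx).resolve_right fun h1 => h (.inr (by rw [h1.2.1, lev_zero]; exact top_Ph X H.fb))
  y4 h e x hx := by
    rw [H.t4 h] at hx ⊢
    rcases H.ky2 X hx with h1 | ⟨hz, -, h1⟩
    · obtain ⟨y, hy⟩ := H.div X h1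
      refine ⟨3, by decide, (6 : ℤ) • y, by rw [lev_zero]; exact H.qv6 X y, fun a _ => ?_⟩
      rw [smul_comm, ← hy, smul_smul, show (6 : ℤ) * 2 = 4 * 3 from rfl, sub_self, dotProduct_zero]
    · obtain ⟨y, hy⟩ := H.div X h1
      refine ⟨1, odd_one, y, by simpa only [hz, one_smul, lev_zero] using H.qv X y, fun a _ => ?_⟩
      rw [mul_one, hy, sub_self, dotProduct_zero]
  h2 h := by
    rw [H.t4 h, lev_zero]
    exact ⟨⟨_, sr_mem_Ph X H.fb j₀⟩, fun y => ⟨3, by decide, _, H.qv6 X y, fun a _ => by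
      rw [show (2 : ℤ) * 3 = 6 from rfl, sub_self, dotProduct_zero]⟩⟩
  c7 lam h := absurd (H.card ((lev_sub _ lam).trans (lev_sub _ _))) (by rw [h]; decide)
  b1 := (em (K = univ)).elim (fun e => .inr (.inl (.inr ((top_ind X H.fb).2 e)))) fun e => .inl (hE e)

omit X

theorem dtG2 : Dt chevG2 2 BG2 !![2, 3; 1, 2] !![-1, 2; 2, -3] !![0, 2; 6, 0] !![0, 1; 3, 0] 1 6 0 :=
  ⟨fb_G2, by decide +kernel, by decide, by decide +kernel, by decide +kernel, by decide, by decide +kernel, by decide +kernel,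
    by decide +kernel⟩

theorem dtF4 : Dt chevF4 4 BF4 !![2, 3, 4, 2; 3, 6, 8, 4; 2, 4, 6, 3; 1, 2, 3, 2]
    !![0, 0, -1, 2; 0, -1, 2, -1; -1, 2, -2, 0; 2, -1, 0, 0] !![0, 0, 0, 2; 0, 0, 2, 0; 0, 4, 0, 0; 4, 0, 0, 0]
    !![0, 0, 0, 1; 0, 0, 1, 0; 0, 2, 0, 0; 2, 0, 0, 0] 1 4 1 :=
  ⟨fb_F4, by decide +kernel, by decide, by decide +kernel, by decide +kernel, by decide, by decide +kernel, by decide +kernel,
    by decide +kernel⟩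

theorem rlD4 : ∀ s : Fin chevD4.nroots, Rl chevD4 4 (cartanOf chevD4 4) (of (cartanOf chevD4 4)) ((2 : ℤ) • 1) s s := by
  decide +kernel

theorem dtD4 : Dt chevD4 4 (cartanOf chevD4 4) !![2, 2, 1, 1; 2, 4, 2, 2; 1, 2, 2, 1; 1, 2, 1, 2] (of (cartanOf chevD4 4))
    ((2 : ℤ) • 1) 1 2 2 0 :=
  ⟨fb_D4, by decide +kernel, by decide, by decide +kernel, by decide +kernel, by decide, mul_one _, fun s => ⟨s, rlD4 s⟩,
    fun s => ⟨s, rlD4 s⟩⟩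

theorem rlE6 : ∀ s : Fin chevE6.nroots, Rl chevE6 6 (cartanOf chevE6 6) (of (cartanOf chevE6 6)) ((2 : ℤ) • 1) s s := by
  decide +kernel

theorem dtE6 : Dt chevE6 6 (cartanOf chevE6 6)
    !![4, 3, 5, 6, 4, 2; 3, 6, 6, 9, 6, 3; 5, 6, 10, 12, 8, 4; 6, 9, 12, 18, 12, 6; 4, 6, 8, 12, 10, 5; 2, 3, 4, 6, 5, 4]
    (of (cartanOf chevE6 6)) ((2 : ℤ) • 1) 1 3 2 0 :=
  ⟨fb_E6, by decide +kernel, by decide, by decide +kernel, by decide +kernel, by decide, mul_one _, fun s => ⟨s, rlE6 s⟩,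
    fun s => ⟨s, rlE6 s⟩⟩

end Sm

variable {r : ℕ} [Fact r.Prime] {k : Type} [Field k] [CharP k r] [IsAlgClosed k]

theorem famG2 {Mx : Matrix (Fin 2) (Fin 2) ℤ} (X : XF hpG2 r k Mx) (hE : BoxEx) : Fam PG2 :=
  fam_of_std X fb_G2 (fun _ _ _ _ h => h.loc) fun K => Sm.dtG2.loc X K (hE.g2 K)

theorem famF4 {Mx : Matrix (Fin 4) (Fin 4) ℤ} (X : XF hpF4 r k Mx) (hE : BoxEx) : Fam PF4 :=
  fam_of_std X fb_F4 (fun _ _ _ _ h => h.loc) fun K => Sm.dtF4.loc X K (hE.f4 K)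

theorem famD4 {Mx : Matrix (Fin 4) (Fin 4) ℤ} (X : XF hpD4 r k Mx) (hE : BoxEx) : Fam PD4 :=
  fam_of_std X fb_D4 (fun _ _ _ _ h => h.loc) fun K => Sm.dtD4.loc X K (hE.d4 K)

theorem famE6 {Mx : Matrix (Fin 6) (Fin 6) ℤ} (X : XF hpE6 r k Mx) (hE : BoxEx) : Fam PE6 :=
  fam_of_std X fb_E6 (fun _ _ _ _ h => h.loc) fun K => Sm.dtE6.loc X K (hE.e6 K)

end Cfsg.Agent.HZ.L.U
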