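import Cfsg.Agent.HZ.L.U.Ok
import Cfsg.Agent.HZ.L.U.Sm
import Cfsg.Agent.HZ.L.U.E8
import Cfsg.Agent.HZ.L.U.Ex
import Cfsg.Agent.HZ.L.CL.Sp
import Cfsg.Agent.HZ.Exc.Main
import Cfsg.Agent.KM.Sc.E3
import Cfsg.Agent.KM.Sc.Lat

/-!
# HZ/L/U: the rows `G₂ F₄ ³D₄ E₈ E₆ ²E₆` from `Res p L` and `Fam` (helper62)

Generic tools (ns `HZ.L.U.Rw0`): `st_of`, `st_isog`, `isg_of_isog`, `hh_sc`, `hh_one`.
-/

set_option autoImplicit false
set_option maxHeartbeats 400000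
set_option linter.unusedSectionVars false

namespace Cfsg.Agent.HZ.L.U

open Cfsg Cfsg.Lie Cfsg.Agent.DL Matrix Cfsg.Agent.KZ.DatX Cfsg.Agent.Nodes.RGDChev Cfsg.Agent.ChevalleyStructure.NPerm
  Cfsg.Agent.ChevalleyStructure.CoxeterGeomTypes Cfsg.Agent.ODD Cfsg.Agent.KM.Sc Subgroup
open Cfsg.Agent.HZ.L.CL.SpR (hh_quot)

namespace Rw0

section Dat

variable {p : ℕ} [Fact p.Prime] {k : Type} [Field k] [CharP k p] [IsAlgClosed k]
  {Y' : Type} [Group Y'] {N' : Type} [Fintype N'] [DecidableEq N'] {ρ' : Y' →* GL N' k} {F' : MulAut Y'}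
  {G' : Subgroup Y'} {Y : Type} [Group Y] {N : Type} [Fintype N] [DecidableEq N] {ρ : Y →* GL N k} {F : MulAut Y}
  {G : Subgroup Y} {X' : Datum p ρ' F' G'} {X : Datum p ρ F G} {θ : Y' →* Y} {z j n : ℕ}

/-- the exponents are determined by the matrix -/
theorem st_of (hp : p ≠ 2) {B : Mat X.R} (hj : 0 < j) (hq : X.QS) (hM : X.Mx = ((p : ℤ) ^ j) • B) (hn : 0 < n)
    (hB : B ^ n = 1) : St X j B := by
  refine ⟨hj, hM, hq, ⟨n, hn, hB⟩, fun a ha => ?_⟩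
  have h0 : ∀ t, (p : ℤ) ^ t ≠ 0 := fun t => pow_ne_zero _ (Nat.cast_ne_zero.2 (Fact.out : p.Prime).ne_zero)
  have h1 : ∀ b, X.Rt b → ∀ t v, X.cor b ≠ (p : ℤ) ^ (t + 1) • v := fun b hb t v e => by
    have h2 := wt_cor hb
    rw [e, dotProduct_smul, smul_eq_mul, pow_succ', mul_assoc] at h2
    exact hp ((Nat.prime_dvd_prime_iff_eq Fact.out Nat.prime_two).1 (Int.natCast_dvd_natCast.1 ⟨_, h2.symm⟩))
  have h2 := X.Mx_cor ha
  rw [hM, smul_mulVec] at h2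
  rcases lt_trichotomy (X.ex a) j with h | h | h
  · obtain ⟨t, rfl⟩ := Nat.exists_eq_add_of_lt h
    rw [add_assoc, pow_add, mul_smul] at h2
    exact absurd (smul_right_injective _ (h0 _) h2).symm (h1 _ (X.g_root a ha) _ _)
  · exact h
  · obtain ⟨t, ht⟩ := Nat.exists_eq_add_of_lt h
    obtain ⟨n, rfl⟩ := Nat.exists_eq_add_of_lt hn
    rw [ht, add_assoc, pow_add, mul_smul] at h2
    have h3 := congrArg (B ^ (0 + n) *ᵥ ·) (smul_right_injective _ (h0 _) h2)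
    simp only [mulVec_mulVec, ← pow_succ, hB, one_mulVec, mulVec_smul] at h3
    exact absurd h3 (h1 a ha _ _)

/-- the simply connected cover -/
theorem st_isog (hp : p ≠ 2) (I : Isog X' X θ z) (hR : I.Rg) (hq : X'.QS) {B : Mat X.R} (h : St X j B) :
    ∃ B', St X' j B' := by
  have h1 : QL X ≤ (QL X).comap (AddMonoidHom.mk' (B *ᵥ ·) (mulVec_add _)) := QL_le fun a ha => by
    have h2 := h.cor_g 1 ha
    rw [X.Wm_one, one_mul] at h2
    show B *ᵥ _ ∈ QL X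
    rw [h2]
    exact cor_QL ((X.g_root a ha).act 1)
  choose c hc using fun i => (hR _).1 (mem_QL.1 (h1 (mem_QL.2 ((hR _).2 ⟨Pi.single i 1, rfl⟩))))
  have h2 : I.P * (of c)ᵀ = B * I.P := Matrix.ext fun a i => by
    have h3 : (I.P *ᵥ c i) a = (B *ᵥ (I.P *ᵥ Pi.single i 1)) a := congrFun (hc i) a
    rwa [mulVec_mulVec, mulVec_single_one] at h3
  have h3 : ∀ m, I.P * (of c)ᵀ ^ m = B ^ m * I.P := fun m => by
    induction m with
    | zero => rw [pow_zero, pow_zero, Matrix.mul_one, Matrix.one_mul]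
    | succ m ih => rw [pow_succ, pow_succ, ← Matrix.mul_assoc, ih, Matrix.mul_assoc, h2, Matrix.mul_assoc]
  obtain ⟨n, hn, hB⟩ := h.fin
  refine ⟨(of c)ᵀ, st_of hp h.pos hq (ext_iff_mulVec.2 fun u => I.P_inj ?_) hn (ext_iff_mulVec.2 fun u => I.P_inj ?_)⟩
  · rw [← I.Mx_P, h.mx, smul_mulVec, smul_mulVec, mulVec_smul, mulVec_mulVec, mulVec_mulVec, h2]
  · rw [mulVec_mulVec, h3, hB, Matrix.one_mul, one_mulVec]

theorem isg_of_isog (I : Isog X' X θ z) (hz : Odd z) : Isg I.P I.Q z (rts X') (rts X) where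
  odd := hz.natCast
  PQ := I.PQ
  QP := I.QP
  up := by
    rintro _ ⟨a', ha', rfl⟩
    obtain ⟨a, ha, e⟩ := I.root a' ha'
    exact ⟨_, ⟨a, ha, rfl⟩, e, I.cor ha' ha e⟩
  dn := by
    rintro _ ⟨a, ha, rfl⟩
    obtain ⟨a', ha', e⟩ := I.root' a ha
    exact ⟨_, ⟨a', ha', rfl⟩, e, I.cor ha' ha e⟩

variable {M : Ideal AlgInt} {S K : Type} [Group S] [Group K] [Finite K] {c : ℕ}

theorem cen_dvd (hA : HasCyclicSchurMultiplier S c) (hK : IsQuasisimple K) (e : (K ⧸ center K) ≃* S) :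
    Nat.card (center K) ∣ c := by
  have h : (e.toMonoidHom.comp (QuotientGroup.mk' (center K))).ker = center K := by
    rw [← MonoidHom.comap_ker, (MonoidHom.ker_eq_bot_iff _).2 e.injective, MonoidHom.comap_bot, QuotientGroup.ker_mk']
  exact h ▸ H95.StemCover.card_ker_dvd_cyclic hA hK.1.commutator_eq_top _ (e.surjective.comp (QuotientGroup.mk'_surjective _)) h.le

/-- the covers are quotients of the simply connected group -/
theorem hh_sc (hM : IsPModular 2 M) (s : KM.Sc X S) (h : HH M ↥(GF F G)) (hA : HasCyclicSchurMultiplier S c) (hc : ¬ p ∣ c)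
    (hK : IsQuasisimple K) (e : (K ⧸ center K) ≃* S) : HH M K := by
  have := X.amb.finite_GF G
  obtain ⟨ψ, h1, h2⟩ := s.cov K hK (fun h => hc (h.trans (cen_dvd hA hK e))) e
  refine hh_quot hM h1 (fun x hx => s.ker.le ?_) h
  rw [MonoidHom.mem_ker, ← h2, MonoidHom.mem_ker.1 hx, QuotientGroup.mk_one, map_one]

/-- no proper covers -/
theorem hh_one (hM : IsPModular 2 M) {Γ : Type} [Group Γ] [Finite Γ] (i : S ≃* Γ) (h : HH M Γ)
    (hA : HasCyclicSchurMultiplier S 1) (hK : IsQuasisimple K) (e : (K ⧸ center K) ≃* S) : HH M K := by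
  let f := ((QuotientGroup.quotientBot.symm.trans (QuotientGroup.quotientMulEquivOfEq
    (card_eq_one.1 (Nat.dvd_one.1 (cen_dvd hA hK e))).symm)).trans (e.trans i)).symm
  exact hh_quot (φ := f.toMonoidHom) hM f.surjective (((MonoidHom.ker_eq_bot_iff _).2 f.injective).le.trans bot_le) h

end Dat

theorem two_ne {F : Type} [Field F] [Fintype F] (h : Odd (Fintype.card F)) : ((2 : ℕ) : F) ≠ 0 := fun e => by
  obtain ⟨m, hm⟩ := h
  have h1 := FiniteField.cast_card_eq_zero F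
  rw [hm, Nat.cast_add, Nat.cast_mul, e, zero_mul, zero_add, Nat.cast_one] at h1
  exact one_ne_zero h1

end Rw0

open Rw0

/-- the result for the label system in all odd characteristics -/
def ResU : Prop := ∀ (p : ℕ) [Fact p.Prime], p ≠ 2 → Res p L

/-- `Fam` is transported along odd isogenies -/
def IsgFam : Prop := ∀ {R R' : Type} [Fintype R] [DecidableEq R] [Fintype R'] [DecidableEq R'] {P : Matrix R R' ℤ}
  {Q : Matrix R' R ℤ} {z : ℤ} {Ψ' : RS R'} {Ψ : RS R}, Isg P Q z Ψ' Ψ → Fam Ψ → Fam Ψ'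

variable {C : ChevalleyDatum} {n : ℕ} {Mc : CoxeterMatrix (Fin n)} {hp : IsType C n Mc}

variable (hp) in
/-- `Fam` if there is a frame -/
def FamX (Ψ : RS (Fin n)) : Prop := ∀ (r : ℕ) [Fact r.Prime] (k : Type) [Field k] [CharP k r] [IsAlgClosed k]
  (Mx : Matrix (Fin n) (Fin n) ℤ) (_ : XF hp r k Mx), Fam Ψ

theorem resU (h : Pk) : ResU := fun _ _ hp => h.res hp (fm hp)

namespace Rw0

variable {B₀ : Fin n → Fin n → ℤ} {B : Matrix (Fin n) (Fin n) ℤ} {r e a c : ℕ} [Fact r.Prime] {M : Ideal AlgInt}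
  {S K : Type} [Group S] [Group K] [Finite K]

theorem ad (hR : ResU) (hB : FB C n B₀) (hF : FamX hp (Ph C n B₀)) (hM : IsPModular 2 M) (hr : 2 ≠ r) (he : 0 < e)
    (ha : 0 < a) (h1 : B ^ a = 1) (h : KM.Nt.HasNT hp r ((r : ℤ) ^ e • B) 1 S) (hA : HasCyclicSchurMultiplier S 1)
    (hK : IsQuasisimple K) (i : (K ⧸ center K) ≃* S) : HF M K := by
  obtain ⟨k, _, _, _, X, -, ⟨s⟩⟩ := h
  have := X.finite
  have := Fintype.ofFinite ↥(GF X.F ⊤)
  exact (hh_one hM s.ov.equiv (hR r hr.symm X.D e B (st_of hr.symm he X.D_qs X.D_Mx ha h1) (fam_Ph X hB (hF r k _ X)) M hM)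
    hA hK i).hf

theorem sc (hR : ResU) (hI : IsgFam) (hB : FB C n B₀) (hF : FamX hp (Ph C n B₀)) {z d : ℕ} (hz : Odd z)
    {V : Fin n → Fin n → ℤ} (hV : H129.TorusChar.InvC C n z V) (hM : IsPModular 2 M) (hr : 2 ≠ r) (he : 0 < e) (ha : 0 < a)
    (h1 : B ^ a = 1) {Adm : Matrix (Fin n) (Fin n) ℤ → Prop} (h : HasSc hp r ((r : ℤ) ^ e • B) Adm z d S)
    (hA : HasCyclicSchurMultiplier S c) (hc : ¬ r ∣ c) (hK : IsQuasisimple K) (i : (K ⧸ center K) ≃* S) : HF M K := by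
  obtain ⟨k, _, _, _, X, t, -, Y, _, N, _, _, ρ, F, X', θ, s, ⟨I⟩, -, -⟩ := h
  have := X'.amb.finite_GF ⊤
  have := Fintype.ofFinite ↥(GF F ⊤)
  have h2 : I.Rg := I.rg s.pi1 (Int.natCast_ne_zero.2 I.pos.ne') fun (v : Fin n → ℤ) =>
    ⟨(v ᵥ* of V : Fin n → ℤ), funext fun (j : Fin n) => Eq.trans ?_
      (Finset.sum_apply j Finset.univ fun m : Fin n => (v ᵥ* of V : Fin n → ℤ) m • cartanOf C n m).symm⟩
  · obtain ⟨B', h3⟩ := st_isog hr.symm I h2 s.qs (st_of hr.symm he X.D_qs X.D_Mx ha h1)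
    exact (hh_sc hM s (hR r hr.symm X' e B' h3 (hI (isg_of_isog I hz) (fam_Ph X hB (hF r k _ X))) M hM) hA hc hK i).hf
  · show (z : ℤ) * v j = ∑ m : Fin n, (∑ b, v b * V b m) * cartanOf C n m j
    simp only [Finset.sum_mul, mul_assoc]
    rw [Finset.sum_comm]
    simp only [← Finset.mul_sum, hV _ j, mul_ite, mul_zero, Finset.sum_ite_eq', Finset.mem_univ, if_true, mul_comm]

theorem three_le {F : Type} [Field F] [Fintype F] (h : Odd (Fintype.card F)) : 3 ≤ Fintype.card F := by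
  have := Fintype.one_lt_card (α := F)
  obtain ⟨k, hk⟩ := h
  omega

end Rw0

theorem rowG2_of (hR : ResU) (hF : FamX hpG2 PG2) : Row (ChevO chevG2) := by
  rintro M hM K _ _ hK ⟨F, _, _, ho, ⟨i⟩⟩ ih
  obtain ⟨r, e, _, _, hr, he, hq⟩ := KM.Nt.exists_char F (two_ne ho)
  by_cases h3 : Fintype.card F = 3
  · exact Exc.g23 F h3 M hM K hK ⟨i⟩ ih
  · exact ad hR fb_G2 hF hM hr he one_pos (one_pow 1) (KM.Nt.has_G2 hq (three_le ho))
      (S2100.result (by have := three_le ho; obtain ⟨k, hk⟩ := ho; omega)) hK i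

theorem rowF4_of (hR : ResU) (hF : FamX hpF4 PF4) : Row (ChevO chevF4) := by
  rintro M hM K _ _ hK ⟨F, _, _, ho, ⟨i⟩⟩ -
  obtain ⟨r, e, _, _, hr, he, hq⟩ := KM.Nt.exists_char F (two_ne ho)
  exact ad hR fb_F4 hF hM hr he one_pos (one_pow 1) (KM.Nt.has_F4 hq) (S2103.result (three_le ho)) hK i

theorem rowE8_of (hR : ResU) (hF : FamX hpE8 PE8) : Row (ChevO chevE8) := by
  rintro M hM K _ _ hK ⟨F, _, _, ho, ⟨i⟩⟩ -
  obtain ⟨r, e, _, _, hr, he, hq⟩ := KM.Nt.exists_char F (two_ne ho)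
  exact ad hR fb_E8 hF hM hr he one_pos (one_pow 1) (KM.Nt.has_E8 hq) S2107.result hK i

theorem rowD4_of (hR : ResU) (hF : FamX hpD4 PD4) : Row TwD4O := by
  rintro M hM K _ _ hK ⟨F, _, _, q, ho, hq, hc, ⟨i⟩⟩ -
  obtain ⟨r, e, _, _, hr, he, rfl⟩ := KM.Nt.exists_char' F (two_ne ho) hq three_ne_zero hc
  exact ad hR fb_D4 hF hM hr he three_pos KM.Nt.P4_cube (KM.Nt.has_3D4 hc) (S2110.result hq hc) hK i

theorem rowE6_of (hR : ResU) (hI : IsgFam) (hF : FamX hpE6 PE6) : Row (ChevO chevE6) := by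
  rintro M hM K _ _ hK ⟨F, _, _, ho, ⟨i⟩⟩ -
  obtain ⟨r, e, _, _, hr, he, hq⟩ := KM.Nt.exists_char F (two_ne ho)
  exact sc hR hI fb_E6 hF (by decide) H129.TorusChar.invC_E6 hM hr he one_pos (one_pow 1) (sc_E6 hq) (S2105.result hq)
    (fun h => not_dvd_sub Fact.out he 3 (h.trans (KM.BD.card_cyc _).symm.dvd)) hK i

theorem rowTw_of (hR : ResU) (hI : IsgFam) (hF : FamX hpE6 PE6) : Row TwE6O := by
  rintro M hM K _ _ hK ⟨F, _, _, q, ho, hq, hc, ⟨i⟩⟩ -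
  obtain ⟨r, e, _, _, hr, he, rfl⟩ := KM.Nt.exists_char' F (two_ne ho) hq two_ne_zero hc
  exact sc hR hI fb_E6 hF (by decide) H129.TorusChar.invC_E6 hM hr he two_pos KM.Nt.P6_sq (sc_2E6 hc)
    (S2108.result hq hc fun h => by rw [hc, h] at ho; exact absurd ho (by decide))
    (fun h => not_dvd_add Fact.out he 3 (h.trans (KM.BD.card_cyc _).symm.dvd)) hK i

theorem rowG2' (h : Pk) : Row (ChevO chevG2) := rowG2_of (resU h) fun _ _ _ _ _ _ _ X => famG2 X boxEx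

theorem rowF4' (h : Pk) : Row (ChevO chevF4) := rowF4_of (resU h) fun _ _ _ _ _ _ _ X => famF4 X boxEx

theorem rowE8' (h : Pk) : Row (ChevO chevE8) := rowE8_of (resU h) fun _ _ _ _ _ _ _ X => famE8_of boxEx X

theorem rowD4' (h : Pk) : Row TwD4O := rowD4_of (resU h) fun _ _ _ _ _ _ _ X => famD4 X boxEx

theorem rowE6' (h : Pk) : Row (ChevO chevE6) := rowE6_of (resU h) (fun h => h.fam) fun _ _ _ _ _ _ _ X => famE6 X boxEx

theorem rowTw' (h : Pk) : Row TwE6O := rowTw_of (resU h) (fun h => h.fam) fun _ _ _ _ _ _ _ X => famE6 X boxEx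

end Cfsg.Agent.HZ.L.U
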